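import Groth.Agent.Lib.ExtPowX.Basic
import Groth.Agent.Lib.ModDesc.Basic
import Mathlib.RingTheory.TensorProduct.IsBaseChangeFree

/-!
# Exterior powers commute with pullback
-/

set_option autoImplicit false
set_option backward.isDefEq.respectTransparency false
set_option linter.style.haveILetI false

universe u

open CategoryTheory AlgebraicGeometry TopologicalSpace Opposite
open GrothLib.InvExt (mres)
open GrothLib.FinCov (IsFrame)
open GrothLib.BCCoh (pullRes)

noncomputable section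

namespace GrothLib.ExtPowX

variable {X Y : Scheme.{u}} (f : X ⟶ Y) (E : Y.Modules) (k : ℕ)

/-- Pull back of sections, as a semilinear map. -/
def pullL (U : Y.Opens) :
    Γ(E, U) →ₛₗ[(f.appLE U (f ⁻¹ᵁ U) le_rfl).hom] Γ((Scheme.Modules.pullback f).obj E, f ⁻¹ᵁ U) where
  toFun := pullRes f E U (f ⁻¹ᵁ U) le_rfl
  map_add' := BCCoh.pullRes_add f E U _ le_rfl
  map_smul' := BCCoh.pullRes_smul f E U _ le_rfl

/-- The target of the comparison. -/
abbrev pushWedge : Y.Modules :=
  (Scheme.Modules.pushforward f).obj (wedge ((Scheme.Modules.pullback f).obj E) k)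

theorem push_smul (M : X.Modules) (U : Y.Opens) (c : Γ(Y, U)) (m : Γ(M, f ⁻¹ᵁ U)) :
    (c • (show Γ((Scheme.Modules.pushforward f).obj M, U) from m) : Γ((Scheme.Modules.pushforward f).obj M, U)) =
      (f.appLE U (f ⁻¹ᵁ U) le_rfl c • m : Γ(M, f ⁻¹ᵁ U)) := by
  rw [Scheme.Hom.appLE_eq_app]
  rfl

/-- The comparison on sections. -/
def cmpApp (U : Y.Opens) (z : ↥(⋀[Γ(Y, U)]^k Γ(E, U))) : Γ(pushWedge f E k, U) :=
  eta ((Scheme.Modules.pullback f).obj E) k (f ⁻¹ᵁ U) (extMap k (pullL f E U) z)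

theorem cmpApp_add (U : Y.Opens) (a b : ↥(⋀[Γ(Y, U)]^k Γ(E, U))) :
    cmpApp f E k U (a + b) = cmpApp f E k U a + cmpApp f E k U b :=
  (congrArg _ (map_add (extMap k (pullL f E U)) a b)).trans (map_add (eta _ k (f ⁻¹ᵁ U)) _ _)

theorem extMap_wRes {U V : Y.Opens} (h : V ≤ U) (z : ↥(⋀[Γ(Y, U)]^k Γ(E, U))) :
    extMap k (pullL f E V) (wRes E k h z) =
      wRes ((Scheme.Modules.pullback f).obj E) k (f.preimage_mono h) (extMap k (pullL f E U) z) :=
  extMap_comm k (resL E h) (pullL f E V) (pullL f E U) (resL _ (f.preimage_mono h))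
    (fun c => ConcreteCategory.congr_hom
      ((Scheme.Hom.map_appLE f le_rfl (homOfLE h).op).trans
        (Scheme.Hom.appLE_map f le_rfl (homOfLE (f.preimage_mono h)).op).symm) c)
    (fun m => (BCCoh.pullRes_res f E h le_rfl le_rfl _ m).symm) z

theorem cmpApp_res {U V : Y.Opens} (h : V ≤ U) (z : ↥(⋀[Γ(Y, U)]^k Γ(E, U))) :
    cmpApp f E k V (wRes E k h z) =
      mres (wedge ((Scheme.Modules.pullback f).obj E) k) (f.preimage_mono h) (cmpApp f E k U z) :=
  (congrArg _ (extMap_wRes f E k h z)).trans (mres_eta _ k (f.preimage_mono h) _).symm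

theorem cmpApp_smul (U : Y.Opens) (c : Γ(Y, U)) (z : ↥(⋀[Γ(Y, U)]^k Γ(E, U))) :
    cmpApp f E k U (c • z) = c • cmpApp f E k U z := by
  rw [push_smul, cmpApp, map_smulₛₗ, map_smul]
  rfl

/-- The comparison of presheaves. -/
def cmpAb : (wPre E k).presheaf ⟶ (pushWedge f E k).presheaf where
  app U := AddCommGrpCat.ofHom (AddMonoidHom.mk' (cmpApp f E k U.unop) (cmpApp_add f E k U.unop))
  naturality U V i := AddCommGrpCat.ext fun z => cmpApp_res f E k (leOfHom i.unop) z

/-- The comparison morphism. -/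
def cmp : wedge E k ⟶ pushWedge f E k :=
  (PresheafOfModules.sheafificationHomEquiv (R := Y.ringCatSheaf) (𝟙 Y.ringCatSheaf.obj)).symm
    (PresheafOfModules.homMk (M₁ := wPre E k) (M₂ := (pushWedge f E k).val) (cmpAb f E k) fun U c z => cmpApp_smul f E k U.unop c z)

theorem cmp_eta (U : Y.Opens) (z : ↥(⋀[Γ(Y, U)]^k Γ(E, U))) :
    (cmp f E k).app U (eta E k U z) = cmpApp f E k U z := by
  have h : PresheafOfModules.sheafificationHomEquiv (R := Y.ringCatSheaf) (𝟙 Y.ringCatSheaf.obj)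
      (P := wPre E k) (F := pushWedge f E k) (cmp f E k) =
    PresheafOfModules.homMk (M₁ := wPre E k) (M₂ := (pushWedge f E k).val) (cmpAb f E k)
      (fun U c z => cmpApp_smul f E k U.unop c z) := Equiv.apply_symm_apply _ _
  exact ConcreteCategory.congr_hom (congrArg (fun φ => ((PresheafOfModules.toPresheaf _).map φ).app (op U)) h) z

theorem exists_basis_pullRes (F : Y.Modules) [F.IsQuasicoherent] {V : Y.Opens} (hV : IsAffineOpen V)
    {V' : X.Opens} (hV' : IsAffineOpen V') (e : V' ≤ f ⁻¹ᵁ V) {ι : Type*} (b : Module.Basis ι Γ(Y, V) Γ(F, V)) :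
    ∃ b' : Module.Basis ι Γ(X, V') Γ((Scheme.Modules.pullback f).obj F, V'), ∀ i, b' i = pullRes f F V V' e (b i) := by
  letI : Algebra Γ(Y, V) Γ(X, V') := (f.appLE V V' e).hom.toAlgebra
  letI : Module Γ(Y, V) Γ((Scheme.Modules.pullback f).obj F, V') := Module.compHom _ (f.appLE V V' e).hom
  haveI : IsScalarTower Γ(Y, V) Γ(X, V') Γ((Scheme.Modules.pullback f).obj F, V') :=
    IsScalarTower.of_algebraMap_smul fun _ _ => rfl
  obtain ⟨p, hp, hps⟩ := BCCoh.isBaseChange_pullRes f F hV hV' e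
  exact ⟨hp.basis b, fun i => (IsBaseChange.basis_apply b hp i).trans (hps _)⟩

theorem isIso_transpose {E : Y.Modules} (hE : FlatMod.IsFinLocFree E) (k : ℕ) :
    Nonempty ((Scheme.Modules.pullback f).obj (wedge E k) ≅ wedge ((Scheme.Modules.pullback f).obj E) k) := by
  let α := ((Scheme.Modules.pullbackPushforwardAdjunction f).homEquiv _ _).symm (cmp f E k)
  let ι := {U' : X.affineOpens // ∃ (U : Y.affineOpens) (n : ℕ) (e : Fin n → Γ(E, U.1)),
    IsFrame E U.1 e ∧ U'.1 ≤ f ⁻¹ᵁ U.1}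
  have hB : Opens.IsBasis (Set.range fun i : ι => i.1.1) := by
    rw [Opens.isBasis_iff_nbhd]
    intro W x hx
    obtain ⟨V, n, e, hxV, he⟩ := FinCov.exists_frame_nhd hE (f.base x)
    obtain ⟨U, hU, hxU, hUV⟩ := exists_isAffineOpen_mem_and_subset (show f.base x ∈ V from hxV)
    obtain ⟨U', hU', hxU', hle⟩ := exists_isAffineOpen_mem_and_subset
      (show x ∈ W ⊓ f ⁻¹ᵁ U from ⟨hx, hxU⟩)
    exact ⟨U', ⟨⟨⟨U', hU'⟩, ⟨U, hU⟩, n, _, TensorGen.isFrame_restrict he hUV, fun _ h => (hle h).2⟩, rfl⟩,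
      hxU', fun _ h => (hle h).1⟩
  haveI : E.IsQuasicoherent := (Euler.isCoh_of_isFinLocFree hE).1
  haveI : (wedge E k).IsQuasicoherent := (Euler.isCoh_of_isFinLocFree (isFinLocFree_wedge hE k)).1
  have hbij : ∀ i : ι, Function.Bijective (α.app i.1.1) := by
    rintro ⟨⟨U', hU'⟩, ⟨U, hU⟩, n, e, he, hle⟩
    obtain ⟨b', hb'⟩ := exists_basis_pullRes f E hU hU' hle (he.basis U le_rfl)
    obtain ⟨c', hc'⟩ := exists_basis_pullRes f (wedge E k) hU hU' hle
      ((wBasis he k U le_rfl).map (LinearEquiv.ofBijective _ (bijective_eta_of_frame he)))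
    let d := (b'.exteriorPower k).map
      (LinearEquiv.ofBijective _ (bijective_eta_affine (OX.isFinLocFree_pullback f hE) k hU'))
    let αl : Γ((Scheme.Modules.pullback f).obj (wedge E k), U') →ₗ[Γ(X, U')]
        Γ(wedge ((Scheme.Modules.pullback f).obj E) k, U') :=
      { toFun := fun x => α.app U' x
        map_add' := map_add (α.app U').hom
        map_smul' := fun c x => Scheme.Modules.Hom.app_smul α c x }
    have hαl : ∀ s, αl (c' s) = d s := fun s => by
      show α.app U' (c' s) = _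
      rw [hc', ModDesc.homEquiv_symm_pullRes]
      simp only [Module.Basis.map_apply, LinearEquiv.ofBijective_apply, d, wBasis, exteriorPower.coe_basis]
      rw [cmp_eta]
      show mres (wedge _ k) hle (eta _ k _ (extMap k (pullL f E U) _)) = _
      rw [mres_eta]
      refine congrArg _ ?_
      rw [exteriorPower.ιMulti_family, extMap_ιMulti, wRes_ιMulti, exteriorPower.ιMulti_family]
      refine congrArg _ (funext fun j => ?_)
      show mres _ hle (pullRes f E U (f ⁻¹ᵁ U) le_rfl _) = b' _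
      rw [hb']
      exact (BCCoh.pullRes_res f E le_rfl le_rfl hle hle _).trans (congrArg _ (CohPullLib.map_sec_self E le_rfl _))
    have : αl = (c'.equiv d (Equiv.refl _)).toLinearMap := c'.ext fun s => by
      rw [hαl, LinearEquiv.coe_coe, Module.Basis.equiv_apply, Equiv.refl_apply]
    show Function.Bijective αl
    rw [this]
    exact LinearEquiv.bijective _
  obtain ⟨φ, -⟩ := AffHom.exists_iso_basis (B := fun i : ι => i.1.1) hB
    (fun i => LinearEquiv.ofBijective
      ({ toFun := fun x => α.app i.1.1 x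
         map_add' := map_add (α.app i.1.1).hom
         map_smul' := fun c x => Scheme.Modules.Hom.app_smul α c x } :
        Γ((Scheme.Modules.pullback f).obj (wedge E k), i.1.1) →ₗ[Γ(X, i.1.1)] _) (hbij i))
    fun i j h m => (CohPullLib.app_res α h m).symm
  exact ⟨φ⟩

/-- Exterior powers of pullbacks. -/
theorem nonempty_pullback_iso {k : ℕ} {E L : Y.Modules} (hE : FlatMod.IsFinLocFree E)
    (hL : ExtPow.IsExtPow k E L) {L' : X.Modules}
    (hL' : ExtPow.IsExtPow k ((Scheme.Modules.pullback f).obj E) L') :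
    Nonempty ((Scheme.Modules.pullback f).obj L ≅ L') := by
  obtain ⟨a⟩ := nonempty_iso hL (isExtPow_wedge hE k) (Iso.refl E)
  obtain ⟨b⟩ := isIso_transpose f hE k
  obtain ⟨c⟩ := nonempty_iso (isExtPow_wedge (OX.isFinLocFree_pullback f hE) k) hL' (Iso.refl _)
  exact ⟨(Scheme.Modules.pullback f).mapIso a ≪≫ b ≪≫ c⟩

/-- The pullback of an exterior power is an exterior power. -/
theorem isExtPow_of_iso {k : ℕ} {E L L' : X.Modules} (hL : ExtPow.IsExtPow k E L) (e : L ≅ L') :
    ExtPow.IsExtPow k E L' := by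
  obtain ⟨φ, hφ⟩ := hL
  let ε : ∀ U : X.affineOpens, Γ(L, U.1) ≃ₗ[Γ(X, U.1)] Γ(L', U.1) := fun U =>
    LinearEquiv.ofBijective
      ({ toFun := fun x => e.hom.app U.1 x
         map_add' := map_add (e.hom.app U.1).hom
         map_smul' := fun c x => Scheme.Modules.Hom.app_smul e.hom c x } : Γ(L, U.1) →ₗ[Γ(X, U.1)] Γ(L', U.1))
      (Function.bijective_iff_has_inverse.2 ⟨fun y => e.inv.app U.1 y,
        fun x => ConcreteCategory.congr_hom (congrArg (fun t => t.app U.1) e.hom_inv_id) x,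
        fun x => ConcreteCategory.congr_hom (congrArg (fun t => t.app U.1) e.inv_hom_id) x⟩)
  refine ⟨fun U => (ε U).symm ≪≫ₗ φ U, fun U V h v => ?_⟩
  show L'.presheaf.map (homOfLE h).op (e.hom.app U.1 _) = e.hom.app V.1 _
  exact (CohPullLib.app_res e.hom h _).symm.trans (congrArg _ (hφ U V h v))

theorem isExtPow_pullback {k : ℕ} {E L : Y.Modules} (hE : FlatMod.IsFinLocFree E)
    (hL : ExtPow.IsExtPow k E L) :
    ExtPow.IsExtPow k ((Scheme.Modules.pullback f).obj E) ((Scheme.Modules.pullback f).obj L) :=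
  isExtPow_of_iso (isExtPow_wedge (OX.isFinLocFree_pullback f hE) k)
    (nonempty_pullback_iso f hE hL (isExtPow_wedge (OX.isFinLocFree_pullback f hE) k)).some.symm

end GrothLib.ExtPowX
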