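import Groth.Agent.Lib.ExtPowX.Sheaf

/-!
# Existence and uniqueness of exterior powers of bundles
-/

set_option autoImplicit false
set_option backward.isDefEq.respectTransparency false
set_option linter.style.haveILetI false

universe u

open CategoryTheory AlgebraicGeometry TopologicalSpace Opposite
open GrothLib.InvExt (mres)

noncomputable section

namespace GrothLib.ExtPowX

variable {X : Scheme.{u}}

theorem isExtPow_wedge {E : X.Modules} (hE : FlatMod.IsFinLocFree E) (k : ℕ) :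
    ExtPow.IsExtPow k E (wedge E k) := by
  let η : ∀ U : X.affineOpens, ↥(⋀[Γ(X, U.1)]^k Γ(E, U.1)) ≃ₗ[Γ(X, U.1)] Γ(wedge E k, U.1) := fun U =>
    LinearEquiv.ofBijective (eta E k U.1) (bijective_eta_affine hE k U.2)
  refine ⟨fun U => (η U).symm, fun U V h e => ?_⟩
  show mres (wedge E k) h (eta E k U.1 _) = eta E k V.1 _
  exact (mres_eta E k h _).trans (congrArg _ (wRes_ιMulti E k h e))

/-- Existence, with local freeness. -/
theorem exists_extPow {E : X.Modules} (hE : FlatMod.IsFinLocFree E) (k : ℕ) :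
    ∃ L : X.Modules, FlatMod.IsFinLocFree L ∧ ExtPow.IsExtPow k E L :=
  ⟨wedge E k, isFinLocFree_wedge hE k, isExtPow_wedge hE k⟩

/-- Isomorphic modules have isomorphic exterior powers. -/
theorem nonempty_iso {k : ℕ} {E E' L L' : X.Modules} (hL : ExtPow.IsExtPow k E L)
    (hL' : ExtPow.IsExtPow k E' L') (e : E ≅ E') : Nonempty (L ≅ L') := by
  obtain ⟨φ, hφ⟩ := hL
  obtain ⟨φ', hφ'⟩ := hL'
  let φ₁ : ∀ U : X.affineOpens, Γ(L, U.1) ≃ₗ[Γ(X, U.1)] ↥(⋀[Γ(X, U.1)]^k Γ(E, U.1)) := φ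
  let φ₂ : ∀ U : X.affineOpens, Γ(L', U.1) ≃ₗ[Γ(X, U.1)] ↥(⋀[Γ(X, U.1)]^k Γ(E', U.1)) := φ'
  let θ : ∀ U : X.affineOpens, Γ(E, U.1) →ₗ[Γ(X, U.1)] Γ(E', U.1) := fun U =>
    { toFun := fun x => e.hom.app U.1 x
      map_add' := map_add (e.hom.app U.1).hom
      map_smul' := fun c x => Scheme.Modules.Hom.app_smul e.hom c x }
  let θ' : ∀ U : X.affineOpens, Γ(E', U.1) →ₗ[Γ(X, U.1)] Γ(E, U.1) := fun U =>
    { toFun := fun x => e.inv.app U.1 x
      map_add' := map_add (e.inv.app U.1).hom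
      map_smul' := fun c x => Scheme.Modules.Hom.app_smul e.inv c x }
  let Λ : ∀ U : X.affineOpens, ↥(⋀[Γ(X, U.1)]^k Γ(E, U.1)) ≃ₗ[Γ(X, U.1)] ↥(⋀[Γ(X, U.1)]^k Γ(E', U.1)) := fun U =>
    LinearEquiv.ofLinear (exteriorPower.map k (θ U)) (exteriorPower.map k (θ' U))
      (by rw [← exteriorPower.map_comp, ← exteriorPower.map_id]; congr 1
          ext x; exact ConcreteCategory.congr_hom (congrArg (fun f => f.app U.1) e.inv_hom_id) x)
      (by rw [← exteriorPower.map_comp, ← exteriorPower.map_id]; congr 1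
          ext x; exact ConcreteCategory.congr_hom (congrArg (fun f => f.app U.1) e.hom_inv_id) x)
  obtain ⟨f, -⟩ := AffHom.exists_iso (M := L) (N := L') (fun U => φ₁ U ≪≫ₗ Λ U ≪≫ₗ (φ₂ U).symm) fun U V h m => by
    obtain ⟨z, rfl⟩ := (φ₁ U).symm.surjective m
    have hz : z ∈ Submodule.span Γ(X, U.1) (Set.range (exteriorPower.ιMulti Γ(X, U.1) k (M := Γ(E, U.1)))) := by
      rw [exteriorPower.ιMulti_span]; exact Submodule.mem_top
    induction hz using Submodule.span_induction with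
    | mem y hy =>
      obtain ⟨v, rfl⟩ := hy
      show L'.presheaf.map _ ((φ₂ U).symm (exteriorPower.map k (θ U) (φ₁ U ((φ₁ U).symm _)))) = _
      rw [LinearEquiv.apply_symm_apply, exteriorPower.map_apply_ιMulti]
      refine (hφ' U V h _).trans ?_
      rw [show L.presheaf.map (homOfLE h).op ((φ₁ U).symm (exteriorPower.ιMulti _ k v)) = _ from hφ U V h v]
      show _ = (φ₂ V).symm (exteriorPower.map k (θ V) (φ₁ V ((φ₁ V).symm _)))
      rw [LinearEquiv.apply_symm_apply]
      refine congrArg (φ₂ V).symm (Eq.trans ?_ (exteriorPower.map_apply_ιMulti (θ V) _).symm)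
      refine congrArg _ (funext fun i => ?_)
      exact (ConcreteCategory.congr_hom (e.hom.mapPresheaf.naturality (homOfLE h).op) (v i)).symm
    | zero => simp
    | add a b _ _ ha hb => simp only [map_add, ha, hb]
    | smul c a _ ha => simp only [map_smul, Scheme.Modules.map_smul, ha]
  exact ⟨f⟩

theorem isFinLocFree_extPow {k : ℕ} {E L : X.Modules} (hE : FlatMod.IsFinLocFree E)
    (hL : ExtPow.IsExtPow k E L) : FlatMod.IsFinLocFree L :=
  DCoh.isFinLocFree_of_iso (nonempty_iso (isExtPow_wedge hE k) hL (Iso.refl E)).some (isFinLocFree_wedge hE k)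

end GrothLib.ExtPowX
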