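import Groth.Agent.Lib.ExtPowX.SesAlg
import Groth.Agent.Lib.ExtPowX.Basic
import Groth.Agent.Lib.VA.Tensor
import Groth.Agent.Lib.TensorGen.Det
import Groth.Agent.Lib.QCoh.Extension
import Groth.Agent.Lib.K0Sub.LocFree
import Groth.Agent.Lib.K0Sub.Basic
import Groth.Agent.Lib.OX.Exact
import Groth.Agent.Lib.RegSheaf.KReg

/-!
# The class of an exterior power of an extension
-/

set_option autoImplicit false
set_option backward.isDefEq.respectTransparency false
set_option linter.style.haveILetI false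
set_option maxHeartbeats 1000000

universe u

open CategoryTheory CategoryTheory.Limits AlgebraicGeometry TopologicalSpace Opposite
open GrothLib.InvExt (mres)
open GrothLib.FinCov (IsFrame)
open GrothLib.VA (tm)
open scoped TensorProduct ZeroObject

noncomputable section

namespace GrothLib.ExtPowX.Ses

variable {X : Scheme.{u}}

theorem app_res {M N : X.Modules} (φ : M ⟶ N) {U V : X.Opens} (h : V ≤ U) (x : Γ(M, U)) :
    φ.app V (mres M h x) = mres N h (φ.app U x) :=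
  (QCoh.map_app φ (homOfLE h) x).symm

/-- Exactness from local behaviour of sections. -/
theorem shortExact_of_local (S : ShortComplex X.Modules)
    (hinj : ∀ (U : X.Opens) (m : Γ(S.X₁, U)), S.f.app U m = 0 → ∀ x ∈ U,
      ∃ (V : X.Opens) (h : V ≤ U), x ∈ V ∧ mres S.X₁ h m = 0)
    (hex : ∀ (U : X.Opens) (m : Γ(S.X₂, U)), S.g.app U m = 0 → ∀ x ∈ U,
      ∃ (V : X.Opens) (h : V ≤ U) (a : Γ(S.X₁, V)), x ∈ V ∧ S.f.app V a = mres S.X₂ h m)
    (hsurj : ∀ (U : X.Opens) (m : Γ(S.X₃, U)), ∀ x ∈ U,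
      ∃ (V : X.Opens) (h : V ≤ U) (a : Γ(S.X₂, V)), x ∈ V ∧ S.g.app V a = mres S.X₃ h m) :
    S.ShortExact := by
  rw [OX.shortExact_iff]
  intro x
  have gres : ∀ (M : X.Modules) {U V : X.Opens} (h : V ≤ U) (hx : x ∈ V) (m : Γ(M, U)),
      OX.germ (DCoh.toP.obj M) V hx (mres M h m) = OX.germ (DCoh.toP.obj M) U (h hx) m :=
    fun M U V h hx m => OX.germ_map (DCoh.toP.obj M) (homOfLE h) hx m
  have gmap : ∀ {M N : X.Modules} (φ : M ⟶ N) {U : X.Opens} (hx : x ∈ U) (m : Γ(M, U)),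
      ((OX.stalk x).map φ).hom (OX.germ (DCoh.toP.obj M) U hx m) = OX.germ (DCoh.toP.obj N) U hx (φ.app U m) :=
    fun φ U hx m => OX.stalkPre_map_germ (DCoh.toP.map φ) U hx m
  refine { exact := ?_, mono_f := ?_, epi_g := ?_ }
  · rw [ShortComplex.moduleCat_exact_iff]
    intro (e : OX.stalkObj x (DCoh.toP.obj S.X₂)) he
    obtain ⟨U, hx, m, rfl⟩ := OX.germ_exists _ e
    have h0 : OX.germ (DCoh.toP.obj S.X₃) U hx (S.g.app U m) = 0 := (gmap S.g hx m).symm.trans he
    obtain ⟨W, hW, iU, iV, e'⟩ := TopCat.Presheaf.germ_eq (OX.prs (DCoh.toP.obj S.X₃)) x hx hx _ 0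
      (h0.trans (map_zero (OX.germ (DCoh.toP.obj S.X₃) U hx)).symm)
    have e'' : S.g.app W (mres S.X₂ iU.le m) = 0 :=
      (app_res S.g iU.le m).trans (e'.trans (map_zero ((OX.prs (DCoh.toP.obj S.X₃)).map iV.op).hom))
    obtain ⟨V, hV, a, hxV, ha⟩ := hex W _ e'' x hW
    exact ⟨OX.germ (DCoh.toP.obj S.X₁) V hxV a, (gmap S.f hxV a).trans
      ((congrArg _ ha).trans ((gres _ hV hxV _).trans (gres _ iU.le hW m)))⟩
  · refine (ModuleCat.mono_iff_injective _).2 ?_
    show Function.Injective ((OX.stalk x).map S.f).hom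
    rw [injective_iff_map_eq_zero]
    intro (e : OX.stalkObj x (DCoh.toP.obj S.X₁)) he
    obtain ⟨U, hx, m, rfl⟩ := OX.germ_exists _ e
    have h0 : OX.germ (DCoh.toP.obj S.X₂) U hx (S.f.app U m) = 0 := (gmap S.f hx m).symm.trans he
    obtain ⟨W, hW, iU, iV, e'⟩ := TopCat.Presheaf.germ_eq (OX.prs (DCoh.toP.obj S.X₂)) x hx hx _ 0
      (h0.trans (map_zero (OX.germ (DCoh.toP.obj S.X₂) U hx)).symm)
    have e'' : S.f.app W (mres S.X₁ iU.le m) = 0 :=
      (app_res S.f iU.le m).trans (e'.trans (map_zero ((OX.prs (DCoh.toP.obj S.X₂)).map iV.op).hom))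
    obtain ⟨V, hV, hxV, ha⟩ := hinj W _ e'' x hW
    exact ((gres _ iU.le hW m).symm.trans ((gres _ hV hxV _).symm)).trans ((congrArg _ ha).trans (map_zero _))
  · refine (ModuleCat.epi_iff_surjective _).2 ?_
    intro (e : OX.stalkObj x (DCoh.toP.obj S.X₃))
    obtain ⟨U, hx, m, rfl⟩ := OX.germ_exists _ e
    obtain ⟨V, hV, a, hxV, ha⟩ := hsurj U m x hx
    exact ⟨OX.germ (DCoh.toP.obj S.X₂) V hxV a, (gmap S.g hxV a).trans ((congrArg _ ha).trans (gres _ hV hxV m))⟩

section Tensor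

variable (M N : X.Modules)

/-- Pure tensors of sections, linearly. -/
def tmL (U : X.Opens) : Γ(M, U) ⊗[Γ(X, U)] Γ(N, U) →ₗ[Γ(X, U)] Γ(CohB1.tensorMod M N, U) :=
  TensorProduct.lift (LinearMap.mk₂ Γ(X, U) tm VA.tm_add_left VA.tm_smul_left VA.tm_add_right VA.tm_smul_right)

/-- Restriction of tensors of sections. -/
def resT {U V : X.Opens} (h : V ≤ U) : Γ(M, U) ⊗[Γ(X, U)] Γ(N, U) →ₛₗ[(X.presheaf.map (homOfLE h).op).hom]
    Γ(M, V) ⊗[Γ(X, V)] Γ(N, V) :=
  TensorProduct.map (resL M h) (resL N h)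

theorem mres_tmL {U V : X.Opens} (h : V ≤ U) (t : Γ(M, U) ⊗[Γ(X, U)] Γ(N, U)) :
    mres (CohB1.tensorMod M N) h (tmL M N U t) = tmL M N V (resT M N h t) := by
  induction t using TensorProduct.induction_on with
  | zero => simp
  | tmul a b => exact VA.mres_tm h a b
  | add a b ha hb => simp only [map_add, ha, hb]

theorem tmL_eq (U : X.Opens) (t : Γ(M, U) ⊗[Γ(X, U)] Γ(N, U)) :
    tmL M N U t = ((SecTwist.toTensor M N).app (op U)).hom t := by
  induction t using TensorProduct.induction_on with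
  | zero => exact (map_zero _).trans (map_zero _).symm
  | tmul a b => rfl
  | add a b ha hb => exact (map_add _ a b).trans ((congrArg₂ (· + ·) ha hb).trans (map_add _ a b).symm)

theorem resT_eq {U V : X.Opens} (h : V ≤ U) (t : Γ(M, U) ⊗[Γ(X, U)] Γ(N, U)) :
    resT M N h t = (CohB1.tensorPre M N).map (homOfLE h).op t := by
  induction t using TensorProduct.induction_on with
  | zero => exact (map_zero _).trans (map_zero ((CohB1.tensorPre M N).map (homOfLE h).op).hom).symm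
  | tmul a b => rfl
  | add a b ha hb => exact (map_add _ a b).trans ((congrArg₂ (· + ·) ha hb).trans
      (map_add ((CohB1.tensorPre M N).map (homOfLE h).op).hom a b).symm)

theorem tmL_locInj {U : X.Opens} {t : Γ(M, U) ⊗[Γ(X, U)] Γ(N, U)} (ht : tmL M N U t = 0) (p : X) (hp : p ∈ U) :
    ∃ (V : X.Opens) (h : V ≤ U), p ∈ V ∧ resT M N h t = 0 := by
  let P : PresheafOfModules.{u} X.ringCatSheaf.obj := CohB1.tensorPre M N
  let η : P.presheaf ⟶ (CohB1.tensorMod M N).presheaf :=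
    CategoryTheory.toSheafify (Opens.grothendieckTopology X) P.presheaf
  haveI : Presheaf.IsLocallyInjective (Opens.grothendieckTopology X) η :=
    inferInstanceAs (Presheaf.IsLocallyInjective _ (CategoryTheory.toSheafify _ _))
  have h0 : η.app (op U) t = η.app (op U) 0 := by
    rw [map_zero]
    exact (tmL_eq M N U t).symm.trans ht
  obtain ⟨V, f, hf, hpV⟩ := Presheaf.equalizerSieve_mem (Opens.grothendieckTopology X) η (X := op U) t 0 h0 p hp
  exact ⟨V, leOfHom f, hpV, (resT_eq M N _ t).trans (hf.trans (map_zero _))⟩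

theorem tmL_locSurj {U : X.Opens} (s : Γ(CohB1.tensorMod M N, U)) (p : X) (hp : p ∈ U) :
    ∃ (V : X.Opens) (h : V ≤ U) (t : Γ(M, V) ⊗[Γ(X, V)] Γ(N, V)),
      p ∈ V ∧ tmL M N V t = mres (CohB1.tensorMod M N) h s := by
  let P : PresheafOfModules.{u} X.ringCatSheaf.obj := CohB1.tensorPre M N
  let η : P.presheaf ⟶ (CohB1.tensorMod M N).presheaf :=
    CategoryTheory.toSheafify (Opens.grothendieckTopology X) P.presheaf
  haveI : Presheaf.IsLocallySurjective (Opens.grothendieckTopology X) η :=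
    inferInstanceAs (Presheaf.IsLocallySurjective _ (CategoryTheory.toSheafify _ _))
  obtain ⟨V, f, ⟨t, ht⟩, hpV⟩ := Presheaf.imageSieve_mem (Opens.grothendieckTopology X) η (U := op U) s p hp
  exact ⟨V, leOfHom f, t, hpV, (tmL_eq M N V t).trans ht⟩

end Tensor

variable (S : ShortComplex X.Modules) (n : ℕ)

/-- The first map on sections. -/
def fL (U : X.Opens) : Γ(S.X₁, U) →ₗ[Γ(X, U)] Γ(S.X₂, U) where
  toFun x := S.f.app U x
  map_add' := map_add (S.f.app U).hom
  map_smul' c x := Scheme.Modules.Hom.app_smul S.f c x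

/-- The second map on sections. -/
def qL (U : X.Opens) : Γ(S.X₂, U) →ₗ[Γ(X, U)] Γ(S.X₃, U) where
  toFun x := S.g.app U x
  map_add' := map_add (S.g.app U).hom
  map_smul' c x := Scheme.Modules.Hom.app_smul S.g c x

theorem qL_comp_fL (U : X.Opens) : qL S U ∘ₗ fL S U = 0 :=
  LinearMap.ext fun x => QCoh.app_comp_zero U x

theorem fL_res {U V : X.Opens} (h : V ≤ U) (x : Γ(S.X₁, U)) :
    mres S.X₂ h (fL S U x) = fL S V (mres S.X₁ h x) :=
  (app_res S.f h x).symm

theorem qL_res {U V : X.Opens} (h : V ≤ U) (x : Γ(S.X₂, U)) :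
    mres S.X₃ h (qL S U x) = qL S V (mres S.X₂ h x) :=
  (app_res S.g h x).symm

theorem mu_tmul_ιMulti {A : Type*} [CommRing A] {M' M : Type u} [AddCommGroup M'] [Module A M'] [AddCommGroup M]
    [Module A M] (f : M' →ₗ[A] M) {j l m : ℕ} (h : j + l = m) (v : Fin j → M') (b : Fin l → M) :
    mu f h (exteriorPower.ιMulti A j v ⊗ₜ exteriorPower.ιMulti A l b) =
      exteriorPower.ιMulti A m (Fin.append (f ∘ v) b ∘ Fin.cast h.symm) := by
  subst h
  refine Subtype.ext ?_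
  rw [coe_mu, exteriorPower.ιMulti_apply_coe, exteriorPower.ιMulti_apply_coe, exteriorPower.ιMulti_apply_coe,
    ExteriorAlgebra.map_apply_ιMulti, ExteriorAlgebra.ιMulti_mul_ιMulti]
  rfl

/-- Restriction on pairs of wedges. -/
def resW (E₁ E₂ : X.Modules) (j l : ℕ) {U V : X.Opens} (h : V ≤ U) :
    (⋀[Γ(X, U)]^j Γ(E₁, U)) ⊗[Γ(X, U)] (⋀[Γ(X, U)]^l Γ(E₂, U)) →ₛₗ[(X.presheaf.map (homOfLE h).op).hom]
      (⋀[Γ(X, V)]^j Γ(E₁, V)) ⊗[Γ(X, V)] (⋀[Γ(X, V)]^l Γ(E₂, V)) :=
  TensorProduct.map (wRes E₁ j h) (wRes E₂ l h)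

theorem ext_wedge_tensor {A : Type*} [CommRing A] {M₁ M₂ : Type*} [AddCommGroup M₁] [Module A M₁] [AddCommGroup M₂]
    [Module A M₂] {B : Type*} [CommRing B] {σ : A →+* B} {P : Type*} [AddCommGroup P] [Module B P] {j l : ℕ}
    {f g : (⋀[A]^j M₁) ⊗[A] (⋀[A]^l M₂) →ₛₗ[σ] P}
    (h : ∀ v w, f (exteriorPower.ιMulti A j v ⊗ₜ exteriorPower.ιMulti A l w) =
      g (exteriorPower.ιMulti A j v ⊗ₜ exteriorPower.ιMulti A l w)) : f = g := by
  refine LinearMap.ext fun t => ?_
  induction t using TensorProduct.induction_on with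
  | zero => simp
  | add a b ha hb => rw [map_add, map_add, ha, hb]
  | tmul x e =>
    have hx : x ∈ Submodule.span A (Set.range (exteriorPower.ιMulti A j (M := M₁))) := by
      rw [exteriorPower.ιMulti_span]; exact Submodule.mem_top
    induction hx using Submodule.span_induction with
    | zero => simp
    | add a b _ _ ha hb => rw [TensorProduct.add_tmul, map_add, map_add, ha, hb]
    | smul c a _ ha => rw [← TensorProduct.smul_tmul', map_smulₛₗ, map_smulₛₗ, ha]
    | mem x hx =>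
      obtain ⟨v, rfl⟩ := hx
      have he : e ∈ Submodule.span A (Set.range (exteriorPower.ιMulti A l (M := M₂))) := by
        rw [exteriorPower.ιMulti_span]; exact Submodule.mem_top
      induction he using Submodule.span_induction with
      | zero => simp
      | add a b _ _ ha hb => rw [TensorProduct.tmul_add, map_add, map_add, ha, hb]
      | smul c a _ ha => rw [TensorProduct.tmul_smul, map_smulₛₗ, map_smulₛₗ, ha]
      | mem e he => obtain ⟨w, rfl⟩ := he; exact h v w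

theorem wRes_mu {j l : ℕ} (hn : j + l = n) {U V : X.Opens} (h : V ≤ U)
    (t : (⋀[Γ(X, U)]^j Γ(S.X₁, U)) ⊗[Γ(X, U)] (⋀[Γ(X, U)]^l Γ(S.X₂, U))) :
    wRes S.X₂ n h (mu (fL S U) hn t) = mu (fL S V) hn (resW S.X₁ S.X₂ j l h t) := by
  refine LinearMap.congr_fun (f := (wRes S.X₂ n h).comp (mu (fL S U) hn))
    (g := (mu (fL S V) hn).comp (resW S.X₁ S.X₂ j l h)) (ext_wedge_tensor (σ := (X.presheaf.map (homOfLE h).op).hom) fun v w => ?_) t
  simp only [LinearMap.comp_apply, resW, TensorProduct.map_tmul, wRes_ιMulti, mu_tmul_ιMulti]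
  refine congrArg _ (funext fun i => ?_)
  subst hn
  simp only [Function.comp_apply, Fin.cast_refl, id_eq]
  induction i using Fin.addCases with
  | left i => rw [Fin.append_left, Fin.append_left]; exact fL_res S h (v i)
  | right i => rw [Fin.append_right, Fin.append_right]

theorem rho_res (j l : ℕ) {U V : X.Opens} (h : V ≤ U)
    (t : (⋀[Γ(X, U)]^j Γ(S.X₁, U)) ⊗[Γ(X, U)] (⋀[Γ(X, U)]^l Γ(S.X₂, U))) :
    resW S.X₁ S.X₃ j l h (rho (qL S U) j l t) = rho (qL S V) j l (resW S.X₁ S.X₂ j l h t) := by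
  induction t using TensorProduct.induction_on with
  | zero => simp
  | add a b ha hb => simp only [map_add, ha, hb]
  | tmul x e =>
    show wRes S.X₁ j h x ⊗ₜ wRes S.X₃ l h (exteriorPower.map l (qL S U) e) =
      wRes S.X₁ j h x ⊗ₜ exteriorPower.map l (qL S V) (wRes S.X₂ l h e)
    refine congrArg _ ?_
    have he : e ∈ Submodule.span Γ(X, U) (Set.range (exteriorPower.ιMulti Γ(X, U) l (M := Γ(S.X₂, U)))) := by
      rw [exteriorPower.ιMulti_span]; exact Submodule.mem_top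
    induction he using Submodule.span_induction with
    | mem e he =>
      obtain ⟨w, rfl⟩ := he
      rw [exteriorPower.map_apply_ιMulti, wRes_ιMulti, wRes_ιMulti, exteriorPower.map_apply_ιMulti]
      exact congrArg _ (funext fun i => qL_res S h (w i))
    | zero => simp
    | add a b _ _ ha hb => simp only [map_add, ha, hb]
    | smul c a _ ha => simp only [map_smul, map_smulₛₗ, ha]

theorem wRes_mem_filt (j : ℕ) {U V : X.Opens} (h : V ≤ U) {z : ↥(⋀[Γ(X, U)]^n Γ(S.X₂, U))}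
    (hz : z ∈ filt (fL S U) j n) : wRes S.X₂ n h z ∈ filt (fL S V) j n := by
  rcases Nat.lt_or_ge n j with hj | hj
  · rw [filt_of_lt _ hj] at hz ⊢
    rw [(Submodule.mem_bot _).1 hz, map_zero]
    exact zero_mem _
  · obtain ⟨w, rfl⟩ := exists_mu (fL S U) (Nat.add_sub_cancel' hj) hz
    rw [wRes_mu]
    exact mu_mem _ _ _

/-- The sections of a step of the filtration. -/
abbrev pObj (j : ℕ) (U : (Opens X)ᵒᵖ) : Type u := ↥(filt (fL S U.unop) j n)

/-- A step of the filtration, as a presheaf of groups. -/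
def pAb (j : ℕ) : (Opens X)ᵒᵖ ⥤ AddCommGrpCat.{u} where
  obj U := AddCommGrpCat.of (pObj S n j U)
  map f := AddCommGrpCat.ofHom
    { toFun := fun z => ⟨wRes S.X₂ n (leOfHom f.unop) z.1, wRes_mem_filt S n j _ z.2⟩
      map_zero' := Subtype.ext (map_zero _)
      map_add' := fun a b => Subtype.ext (map_add (wRes S.X₂ n (leOfHom f.unop)) a.1 b.1) }
  map_id U := AddCommGrpCat.ext fun x => Subtype.ext (wRes_self S.X₂ n x.1)
  map_comp f g := AddCommGrpCat.ext fun x =>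
    Subtype.ext (wRes_wRes S.X₂ n (leOfHom f.unop) (leOfHom g.unop) x.1).symm

instance (j : ℕ) (U : (Opens X)ᵒᵖ) : Module (X.ringCatSheaf.obj.obj U) ((pAb S n j).obj U) :=
  inferInstanceAs (Module Γ(X, U.unop) (pObj S n j U))

/-- A step of the filtration, as a presheaf of modules. -/
def pPre (j : ℕ) : PresheafOfModules.{u} X.ringCatSheaf.obj :=
  PresheafOfModules.ofPresheaf (pAb S n j) fun _ _ f r m =>
    Subtype.ext ((wRes S.X₂ n (leOfHom f.unop)).map_smulₛₗ r m.1)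

/-- A step of the filtration. -/
def F (j : ℕ) : X.Modules :=
  (PresheafOfModules.sheafification (R := X.ringCatSheaf) (𝟙 X.ringCatSheaf.obj)).obj (pPre S n j)

/-- The sheafification map. -/
def un (j : ℕ) (U : X.Opens) : ↥(filt (fL S U) j n) →ₗ[Γ(X, U)] Γ(F S n j, U) :=
  (((PresheafOfModules.sheafificationAdjunction (R := X.ringCatSheaf) (𝟙 X.ringCatSheaf.obj)).unit.app
    (pPre S n j)).app (op U)).hom

/-- The sheafification map, as a map of presheaves. -/
def unAb (j : ℕ) : (pPre S n j).presheaf ⟶ (F S n j).presheaf :=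
  CategoryTheory.toSheafify (Opens.grothendieckTopology X) (pPre S n j).presheaf

theorem un_locInj {j : ℕ} {U : X.Opens} {z : ↥(filt (fL S U) j n)} (hz : un S n j U z = 0) (p : X) (hp : p ∈ U) :
    ∃ (V : X.Opens) (h : V ≤ U), p ∈ V ∧ wRes S.X₂ n h z.1 = 0 := by
  haveI : Presheaf.IsLocallyInjective (Opens.grothendieckTopology X) (unAb S n j) :=
    inferInstanceAs (Presheaf.IsLocallyInjective _ (CategoryTheory.toSheafify _ _))
  have h0 : (unAb S n j).app (op U) z = (unAb S n j).app (op U) 0 := by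
    rw [map_zero]
    exact hz
  obtain ⟨V, f, hf, hpV⟩ := Presheaf.equalizerSieve_mem (Opens.grothendieckTopology X) (unAb S n j) (X := op U) z 0 h0 p hp
  exact ⟨V, leOfHom f, hpV, (congrArg Subtype.val hf).trans (map_zero (wRes S.X₂ n (leOfHom f)))⟩

theorem un_locSurj {j : ℕ} {U : X.Opens} (t : Γ(F S n j, U)) (p : X) (hp : p ∈ U) :
    ∃ (V : X.Opens) (h : V ≤ U) (z : ↥(filt (fL S V) j n)), p ∈ V ∧ un S n j V z = mres (F S n j) h t := by
  haveI : Presheaf.IsLocallySurjective (Opens.grothendieckTopology X) (unAb S n j) :=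
    inferInstanceAs (Presheaf.IsLocallySurjective _ (CategoryTheory.toSheafify _ _))
  obtain ⟨V, f, ⟨x, hx⟩, hpV⟩ := Presheaf.imageSieve_mem (Opens.grothendieckTopology X) (unAb S n j) (U := op U) t p hp
  exact ⟨V, leOfHom f, x, hpV, hx⟩

theorem mres_un {j : ℕ} {U V : X.Opens} (h : V ≤ U) (z : ↥(filt (fL S U) j n)) :
    mres (F S n j) h (un S n j U z) = un S n j V ⟨wRes S.X₂ n h z.1, wRes_mem_filt S n j h z.2⟩ :=
  (ConcreteCategory.congr_hom ((unAb S n j).naturality (homOfLE h).op) z).symm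

/-- Make a morphism out of a step. -/
def homF {j : ℕ} {M : X.Modules} (φ : ∀ U : X.Opens, ↥(filt (fL S U) j n) →ₗ[Γ(X, U)] Γ(M, U))
    (hφ : ∀ {U V : X.Opens} (h : V ≤ U) (z : ↥(filt (fL S U) j n)),
      φ V ⟨wRes S.X₂ n h z.1, wRes_mem_filt S n j h z.2⟩ = mres M h (φ U z)) :
    F S n j ⟶ M :=
  (PresheafOfModules.sheafificationHomEquiv (R := X.ringCatSheaf) (𝟙 X.ringCatSheaf.obj)).symm
    (PresheafOfModules.homMk (M₁ := pPre S n j) (M₂ := M.val)
      { app := fun U => AddCommGrpCat.ofHom (φ U.unop).toAddMonoidHom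
        naturality := fun _ _ i => AddCommGrpCat.ext fun z => hφ (leOfHom i.unop) z }
      fun U c z => (φ U.unop).map_smul c z)

theorem homF_un {j : ℕ} {M : X.Modules} (φ : ∀ U : X.Opens, ↥(filt (fL S U) j n) →ₗ[Γ(X, U)] Γ(M, U))
    (hφ : ∀ {U V : X.Opens} (h : V ≤ U) (z : ↥(filt (fL S U) j n)),
      φ V ⟨wRes S.X₂ n h z.1, wRes_mem_filt S n j h z.2⟩ = mres M h (φ U z)) (U : X.Opens)
    (z : ↥(filt (fL S U) j n)) : (homF S n φ hφ).app U (un S n j U z) = φ U z := by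
  have h : PresheafOfModules.sheafificationHomEquiv (R := X.ringCatSheaf) (𝟙 X.ringCatSheaf.obj)
      (P := pPre S n j) (F := M) (homF S n φ hφ) = _ := Equiv.apply_symm_apply _ _
  exact ConcreteCategory.congr_hom (congrArg (fun ψ => ((PresheafOfModules.toPresheaf _).map ψ).app (op U)) h) z

/-- The inclusion of steps, on sections. -/
def inclApp (j : ℕ) (U : X.Opens) : ↥(filt (fL S U) (j + 1) n) →ₗ[Γ(X, U)] Γ(F S n j, U) :=
  (un S n j U).comp (Submodule.inclusion (filt_succ_le (fL S U) j n))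

theorem inclApp_res (j : ℕ) {U V : X.Opens} (h : V ≤ U) (z : ↥(filt (fL S U) (j + 1) n)) :
    inclApp S n j V ⟨wRes S.X₂ n h z.1, wRes_mem_filt S n (j + 1) h z.2⟩ = mres (F S n j) h (inclApp S n j U z) :=
  (mres_un S n h ⟨z.1, filt_succ_le _ j n z.2⟩).symm

/-- The inclusion of steps. -/
def incl (j : ℕ) : F S n (j + 1) ⟶ F S n j :=
  homF S n (inclApp S n j) (inclApp_res S n j)

theorem incl_un (j : ℕ) (U : X.Opens) (z : ↥(filt (fL S U) (j + 1) n)) :
    (incl S n j).app U (un S n (j + 1) U z) = un S n j U ⟨z.1, filt_succ_le _ j n z.2⟩ :=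
  homF_un S n (inclApp S n j) (inclApp_res S n j) U z

/-- The target of the associated graded map. -/
abbrev gr (j l : ℕ) : X.Modules := CohB1.tensorMod (wedge S.X₁ j) (wedge S.X₃ l)

/-- Pairs of wedges to the tensor product. -/
def tau (j l : ℕ) (U : X.Opens) :
    (⋀[Γ(X, U)]^j Γ(S.X₁, U)) ⊗[Γ(X, U)] (⋀[Γ(X, U)]^l Γ(S.X₃, U)) →ₗ[Γ(X, U)] Γ(gr S j l, U) :=
  tmL (wedge S.X₁ j) (wedge S.X₃ l) U ∘ₗ TensorProduct.map (eta S.X₁ j U) (eta S.X₃ l U)

theorem resT_map_eta (j l : ℕ) {U V : X.Opens} (h : V ≤ U)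
    (t : (⋀[Γ(X, U)]^j Γ(S.X₁, U)) ⊗[Γ(X, U)] (⋀[Γ(X, U)]^l Γ(S.X₃, U))) :
    resT _ _ h (TensorProduct.map (eta S.X₁ j U) (eta S.X₃ l U) t) =
      TensorProduct.map (eta S.X₁ j V) (eta S.X₃ l V) (resW S.X₁ S.X₃ j l h t) := by
  induction t using TensorProduct.induction_on with
  | zero => simp
  | tmul a b =>
    show resL _ h (eta _ _ U a) ⊗ₜ resL _ h (eta _ _ U b) = eta _ _ V _ ⊗ₜ eta _ _ V _
    exact congrArg₂ (· ⊗ₜ ·) (mres_eta S.X₁ j h a) (mres_eta S.X₃ l h b)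
  | add a b ha hb => simp only [map_add, ha, hb]

theorem mres_tau (j l : ℕ) {U V : X.Opens} (h : V ≤ U)
    (t : (⋀[Γ(X, U)]^j Γ(S.X₁, U)) ⊗[Γ(X, U)] (⋀[Γ(X, U)]^l Γ(S.X₃, U))) :
    mres (gr S j l) h (tau S j l U t) = tau S j l V (resW S.X₁ S.X₃ j l h t) :=
  (mres_tmL _ _ h _).trans (congrArg _ (resT_map_eta S j l h t))

variable (hS : S.ShortExact) (h₁ : FlatMod.IsFinLocFree S.X₁) (h₂ : FlatMod.IsFinLocFree S.X₂)
  (h₃ : FlatMod.IsFinLocFree S.X₃)

/-- Opens over which the sequence splits. -/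
def Good (V : X.Opens) : Prop :=
  IsAffineOpen V ∧ ∃ (m : ℕ) (e : Fin m → Γ(S.X₃, V)), IsFrame S.X₃ V e

include h₃ in
theorem exists_good {U : X.Opens} {p : X} (hp : p ∈ U) : ∃ (V : X.Opens) (_ : V ≤ U), p ∈ V ∧ Good S V := by
  obtain ⟨W, m, e, hpW, he⟩ := FinCov.exists_frame_nhd h₃ p
  obtain ⟨V, hV, hpV, hle⟩ := exists_isAffineOpen_mem_and_subset (show p ∈ U ⊓ W from ⟨hp, hpW⟩)
  exact ⟨V, fun _ h => (hle h).1, hpV, hV, m, _, TensorGen.isFrame_restrict he (fun _ h => (hle h).2)⟩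

include hS h₁ in
theorem exists_split {V : X.Opens} (hV : Good S V) : ∃ (s : Γ(S.X₃, V) →ₗ[Γ(X, V)] Γ(S.X₂, V))
    (r : Γ(S.X₂, V) →ₗ[Γ(X, V)] Γ(S.X₁, V)),
      (∀ y, qL S V (s y) = y) ∧ (∀ m, m - s (qL S V m) ∈ LinearMap.range (fL S V)) ∧ ∀ x, r (fL S V x) = x := by
  obtain ⟨hVa, m, e, he⟩ := hV
  haveI : S.X₁.IsQuasicoherent := (Euler.isCoh_of_isFinLocFree h₁).1
  let b := he.basis V le_rfl
  choose g hg using fun i => QCoh.app_surjective_of_isAffineOpen hS hVa (b i)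
  let s := b.constr Γ(X, V) g
  have hs : ∀ y, qL S V (s y) = y := fun y => by
    refine LinearMap.congr_fun (f := qL S V ∘ₗ s) (g := LinearMap.id) (b.ext fun i => ?_) y
    show qL S V (b.constr Γ(X, V) g (b i)) = b i
    rw [Module.Basis.constr_basis]
    exact hg i
  have hmem : ∀ y, y - s (qL S V y) ∈ LinearMap.range (fL S V) := fun y =>
    QCoh.app_exact hS V _ (by
      show qL S V (y - s (qL S V y)) = 0
      rw [map_sub, hs, sub_self])
  let ε := LinearEquiv.ofInjective (fL S V) (QCoh.app_injective hS V)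
  refine ⟨s, ε.symm.toLinearMap ∘ₗ (LinearMap.id - s ∘ₗ qL S V).codRestrict (LinearMap.range (fL S V)) hmem,
    hs, hmem, fun x => ε.injective ?_⟩
  refine (ε.apply_symm_apply _).trans (Subtype.ext ?_)
  show fL S V x - s (qL S V (fL S V x)) = fL S V x
  rw [show qL S V (fL S V x) = 0 from LinearMap.congr_fun (qL_comp_fL S V) x, map_zero, sub_zero]

include hS h₁ h₃ in
theorem tau_rho_eq_zero {j l : ℕ} (hn : j + l = n) {U : X.Opens}
    {t : (⋀[Γ(X, U)]^j Γ(S.X₁, U)) ⊗[Γ(X, U)] (⋀[Γ(X, U)]^l Γ(S.X₂, U))} (ht : mu (fL S U) hn t = 0) :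
    tau S j l U (rho (qL S U) j l t) = 0 := by
  choose V hVU hpV hV using fun p : U => exists_good S h₃ p.2
  refine Ample.meq_of_cover (gr S j l) V hVU (fun p hp => Opens.mem_iSup.2 ⟨⟨p, hp⟩, hpV ⟨p, hp⟩⟩) fun p => ?_
  obtain ⟨s, r, -, -, hr⟩ := exists_split S hS h₁ (hV p)
  rw [mres_tau, rho_res, ← retr_mu (r := r) hr (qL_comp_fL S (V p)) hn, ← wRes_mu, ht, map_zero, map_zero, map_zero]
  exact (map_zero ((gr S j l).presheaf.map _).hom).symm

variable {n}

/-- The value of the graded map. -/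
def sigApp {j l : ℕ} (hn : j + l = n) (U : X.Opens) (z : ↥(filt (fL S U) j n)) : Γ(gr S j l, U) :=
  tau S j l U (rho (qL S U) j l (exists_mu (fL S U) hn z.2).choose)

include hS h₁ h₃ in
theorem sigApp_eq {j l : ℕ} (hn : j + l = n) {U : X.Opens} (z : ↥(filt (fL S U) j n))
    {t : (⋀[Γ(X, U)]^j Γ(S.X₁, U)) ⊗[Γ(X, U)] (⋀[Γ(X, U)]^l Γ(S.X₂, U))} (ht : mu (fL S U) hn t = z.1) :
    sigApp S hn U z = tau S j l U (rho (qL S U) j l t) := by
  rw [sigApp, ← sub_eq_zero, ← map_sub (tau S j l U), ← map_sub (rho (qL S U) j l)]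
  refine tau_rho_eq_zero S n hS h₁ h₃ hn ?_
  rw [map_sub, (exists_mu (fL S U) hn z.2).choose_spec, ht, sub_self]

include hS h₁ h₃ in
theorem sigApp_add {j l : ℕ} (hn : j + l = n) (U : X.Opens) (a b : ↥(filt (fL S U) j n)) :
    sigApp S hn U (a + b) = sigApp S hn U a + sigApp S hn U b := by
  obtain ⟨s, hs⟩ := exists_mu (fL S U) hn a.2
  obtain ⟨t, ht⟩ := exists_mu (fL S U) hn b.2
  have hst : mu (fL S U) hn (s + t) = (a + b).1 := (map_add _ s t).trans (congrArg₂ (· + ·) hs ht)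
  rw [sigApp_eq S hS h₁ h₃ hn a hs, sigApp_eq S hS h₁ h₃ hn b ht, sigApp_eq S hS h₁ h₃ hn (a + b) hst,
    map_add (rho (qL S U) j l), map_add (tau S j l U)]

include hS h₁ h₃ in
theorem sigApp_smul {j l : ℕ} (hn : j + l = n) (U : X.Opens) (c : Γ(X, U)) (a : ↥(filt (fL S U) j n)) :
    sigApp S hn U (c • a) = c • sigApp S hn U a := by
  obtain ⟨s, hs⟩ := exists_mu (fL S U) hn a.2
  have hcs : mu (fL S U) hn (c • s) = (c • a).1 := (map_smul _ c s).trans (congrArg (c • ·) hs)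
  rw [sigApp_eq S hS h₁ h₃ hn a hs, sigApp_eq S hS h₁ h₃ hn (c • a) hcs, map_smul (rho (qL S U) j l),
    map_smul (tau S j l U)]

include hS h₁ h₃ in
theorem sigApp_res {j l : ℕ} (hn : j + l = n) {U V : X.Opens} (h : V ≤ U) (z : ↥(filt (fL S U) j n)) :
    sigApp S hn V ⟨wRes S.X₂ n h z.1, wRes_mem_filt S n j h z.2⟩ = mres (gr S j l) h (sigApp S hn U z) := by
  obtain ⟨s, hs⟩ := exists_mu (fL S U) hn z.2
  rw [sigApp_eq S hS h₁ h₃ hn z hs, mres_tau, rho_res]
  exact sigApp_eq S hS h₁ h₃ hn _ ((wRes_mu S n hn h s).symm.trans (congrArg _ hs))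

/-- The graded map on sections. -/
def sigL {j l : ℕ} (hn : j + l = n) (U : X.Opens) : ↥(filt (fL S U) j n) →ₗ[Γ(X, U)] Γ(gr S j l, U) where
  toFun := sigApp S hn U
  map_add' := sigApp_add S hS h₁ h₃ hn U
  map_smul' := sigApp_smul S hS h₁ h₃ hn U

/-- The map to the graded piece. -/
def sig {j l : ℕ} (hn : j + l = n) : F S n j ⟶ gr S j l :=
  homF S n (sigL S hS h₁ h₃ hn) (sigApp_res S hS h₁ h₃ hn)

theorem sig_un {j l : ℕ} (hn : j + l = n) {U : X.Opens} (z : ↥(filt (fL S U) j n))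
    {t : (⋀[Γ(X, U)]^j Γ(S.X₁, U)) ⊗[Γ(X, U)] (⋀[Γ(X, U)]^l Γ(S.X₂, U))} (ht : mu (fL S U) hn t = z.1) :
    (sig S hS h₁ h₃ hn).app U (un S n j U z) = tau S j l U (rho (qL S U) j l t) :=
  (homF_un S n (sigL S hS h₁ h₃ hn) (sigApp_res S hS h₁ h₃ hn) U z).trans (sigApp_eq S hS h₁ h₃ hn z ht)

theorem hom_ext {j : ℕ} {M : X.Modules} {a b : F S n j ⟶ M}
    (h : ∀ (U : X.Opens) (z : ↥(filt (fL S U) j n)), a.app U (un S n j U z) = b.app U (un S n j U z)) : a = b := by
  refine AffHom.hom_ext fun U m => ?_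
  choose V hVU z hpV hz using fun p : U.1 => un_locSurj S n m p.1 p.2
  refine Ample.meq_of_cover M V hVU (fun p hp => Opens.mem_iSup.2 ⟨⟨p, hp⟩, hpV ⟨p, hp⟩⟩) fun p => ?_
  have ha := app_res a (hVU p) m
  have hb := app_res b (hVU p) m
  show mres M (hVU p) _ = mres M (hVU p) _
  rw [show mres M (hVU p) (a.app U.1 m) = a.app (V p) (mres (F S n j) (hVU p) m) from ha.symm,
    show mres M (hVU p) (b.app U.1 m) = b.app (V p) (mres (F S n j) (hVU p) m) from hb.symm, ← hz p]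
  exact h _ _

theorem incl_sig {j l : ℕ} (hn : j + l = n) : incl S n j ≫ sig S hS h₁ h₃ hn = 0 := by
  refine hom_ext S fun U z => ?_
  rw [Scheme.Modules.Hom.comp_app, ConcreteCategory.comp_apply, incl_un, Scheme.Modules.Hom.zero_app]
  rcases l with _ | l
  · have hz : z.1 = 0 := by
      exact (Submodule.mem_bot _).1 ((filt_of_lt (fL S U) (show n < j + 1 by omega)).le z.2)
    rw [sig_un S hS h₁ h₃ hn _ (t := 0) (by rw [map_zero, hz]), map_zero, map_zero]
    rfl
  · obtain ⟨t, ht, ht0⟩ := exists_mu_rho_eq_zero (fL S U) (qL S U) (qL_comp_fL S U) hn z.2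
    rw [sig_un S hS h₁ h₃ hn _ ht, ht0, map_zero]
    rfl

include h₂ in
theorem tau_locInj {j l : ℕ} {U : X.Opens}
    {t : (⋀[Γ(X, U)]^j Γ(S.X₁, U)) ⊗[Γ(X, U)] (⋀[Γ(X, U)]^l Γ(S.X₃, U))} (h₁ : FlatMod.IsFinLocFree S.X₁)
    (h₃ : FlatMod.IsFinLocFree S.X₃) (ht : tau S j l U t = 0) (p : X) (hp : p ∈ U) :
    ∃ (V : X.Opens) (h : V ≤ U), p ∈ V ∧ Good S V ∧ resW S.X₁ S.X₃ j l h t = 0 := by
  obtain ⟨W, hW, hpW, hres⟩ := tmL_locInj _ _ ht p hp
  rw [resT_map_eta] at hres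
  obtain ⟨V, hV, hpV, hgood⟩ := exists_good S h₃ hpW
  refine ⟨V, hV.trans hW, hpV, hgood, ?_⟩
  have h0 : TensorProduct.map (eta S.X₁ j V) (eta S.X₃ l V) (resW S.X₁ S.X₃ j l (hV.trans hW) t) = 0 := by
    have e1 := congrArg (resT _ _ hV) (resT_map_eta S j l hW t)
    rw [hres, map_zero] at e1
    rw [← resT_map_eta]
    have e2 : ∀ x, resT (wedge S.X₁ j) (wedge S.X₃ l) hV (resT _ _ hW x) = resT _ _ (hV.trans hW) x := fun x => by
      induction x using TensorProduct.induction_on with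
      | zero => simp
      | add a b ha hb => simp only [map_add, ha, hb]
      | tmul a b =>
        show resL _ hV (resL _ hW a) ⊗ₜ resL _ hV (resL _ hW b) = resL _ _ a ⊗ₜ resL _ _ b
        exact congrArg₂ (· ⊗ₜ ·) (InvExt.mres_mres _ _ _ a) (InvExt.mres_mres _ _ _ b)
    rw [← e2]
    exact e1
  let φ := TensorProduct.congr (LinearEquiv.ofBijective _ (bijective_eta_affine h₁ j hgood.1))
    (LinearEquiv.ofBijective _ (bijective_eta_affine h₃ l hgood.1))
  exact φ.injective (h0.trans (map_zero φ).symm)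

include h₂ in
theorem shortExact_step {j l : ℕ} (hn : j + l = n) :
    (ShortComplex.mk (incl S n j) (sig S hS h₁ h₃ hn) (incl_sig S hS h₁ h₃ hn)).ShortExact := by
  refine shortExact_of_local _ ?_ ?_ ?_
  · intro U m hm p hp
    obtain ⟨V, hV, z, hpV, hz⟩ := un_locSurj S n (j := j + 1) m p hp
    have h0 : un S n j V ⟨z.1, filt_succ_le _ j n z.2⟩ = 0 := by
      rw [← incl_un, hz]
      refine (app_res (incl S n j) hV m).trans ?_
      exact (congrArg _ hm).trans (map_zero ((F S n j).presheaf.map _).hom)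
    obtain ⟨W, hW, hpW, hres⟩ := un_locInj S n h0 p hpV
    refine ⟨W, hW.trans hV, hpW, ?_⟩
    rw [← InvExt.mres_mres _ hV hW, ← hz, mres_un]
    exact (congrArg _ (Subtype.ext hres)).trans (map_zero _)
  · intro U m hm p hp
    obtain ⟨V, hV, z, hpV, hz⟩ := un_locSurj S n (j := j) m p hp
    obtain ⟨t, ht⟩ := exists_mu (fL S V) hn z.2
    have h0 : tau S j l V (rho (qL S V) j l t) = 0 := by
      rw [← sig_un S hS h₁ h₃ hn z ht, hz]
      refine (app_res (sig S hS h₁ h₃ hn) hV m).trans ?_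
      exact (congrArg _ hm).trans (map_zero ((gr S j l).presheaf.map _).hom)
    obtain ⟨W, hW, hpW, hgood, hres⟩ := tau_locInj S h₂ h₁ h₃ h0 p hpV
    rw [rho_res] at hres
    have hzW : wRes S.X₂ n hW z.1 ∈ filt (fL S W) (j + 1) n := by
      rw [← ht, wRes_mu]
      obtain ⟨s, r, hs, hmem, -⟩ := exists_split S hS h₁ hgood
      rcases l with _ | l
      · have hinj : Function.Injective (rho (qL S W) j 0 (M' := Γ(S.X₁, W))) := by
          have e : exteriorPower.map 0 (qL S W) = ((exteriorPower.zeroEquiv Γ(X, W) Γ(S.X₂, W)).trans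
              (exteriorPower.zeroEquiv Γ(X, W) Γ(S.X₃, W)).symm).toLinearMap := by
            refine exteriorPower.linearMap_ext (AlternatingMap.ext fun v => ?_)
            apply (exteriorPower.zeroEquiv Γ(X, W) Γ(S.X₃, W)).injective
            simp [exteriorPower.map_apply_ιMulti, exteriorPower.zeroEquiv_ιMulti]
          rw [rho, e]
          exact (TensorProduct.congr (LinearEquiv.refl _ _) ((exteriorPower.zeroEquiv Γ(X, W) Γ(S.X₂, W)).trans
            (exteriorPower.zeroEquiv Γ(X, W) Γ(S.X₃, W)).symm)).injective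
        rw [hinj (hres.trans (map_zero _).symm), map_zero]
        exact zero_mem _
      · have h := sub_mu_mem (fL S W) (qL S W) s hmem hn (resW S.X₁ S.X₂ j (l + 1) hW t)
        rwa [hres, map_zero, map_zero, sub_zero] at h
    refine ⟨W, hW.trans hV, un S n (j + 1) W ⟨_, hzW⟩, hpW, ?_⟩
    refine (incl_un S n j W _).trans ?_
    rw [← InvExt.mres_mres _ hV hW, ← hz, mres_un]
  · intro U m p hp
    obtain ⟨V, hV, t, hpV, ht⟩ := tmL_locSurj (wedge S.X₁ j) (wedge S.X₃ l) m p hp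
    obtain ⟨W, hW, hpW, hgood⟩ := exists_good S h₃ hpV
    obtain ⟨s, r, hs, -, -⟩ := exists_split S hS h₁ hgood
    let φ := TensorProduct.congr (LinearEquiv.ofBijective _ (bijective_eta_affine h₁ j hgood.1))
      (LinearEquiv.ofBijective _ (bijective_eta_affine h₃ l hgood.1))
    obtain ⟨t₀, ht₀⟩ := φ.surjective (resT _ _ hW t)
    let w := TensorProduct.map LinearMap.id (exteriorPower.map l s) t₀
    have hw : rho (qL S W) j l w = t₀ := by
      rw [rho, ← LinearMap.comp_apply, ← TensorProduct.map_comp, LinearMap.comp_id, ← exteriorPower.map_comp,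
        show qL S W ∘ₗ s = LinearMap.id from LinearMap.ext hs, exteriorPower.map_id, TensorProduct.map_id,
        LinearMap.id_apply]
    refine ⟨W, hW.trans hV, un S n j W ⟨_, mu_mem (fL S W) hn w⟩, hpW, ?_⟩
    refine (sig_un S hS h₁ h₃ hn _ (t := w) rfl).trans ?_
    rw [hw, ← InvExt.mres_mres _ hV hW, ← ht, mres_tmL, ← ht₀]
    rfl

variable (n)

theorem toWedgeApp_res {U V : X.Opens} (h : V ≤ U) (z : ↥(filt (fL S U) 0 n)) :
    (eta S.X₂ n V ∘ₗ (filt (fL S V) 0 n).subtype) ⟨wRes S.X₂ n h z.1, wRes_mem_filt S n 0 h z.2⟩ =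
      mres (wedge S.X₂ n) h ((eta S.X₂ n U ∘ₗ (filt (fL S U) 0 n).subtype) z) :=
  (mres_eta S.X₂ n h z.1).symm

/-- The whole exterior power. -/
def toWedge : F S n 0 ⟶ wedge S.X₂ n :=
  homF S n (fun U => eta S.X₂ n U ∘ₗ (filt (fL S U) 0 n).subtype) (toWedgeApp_res S n)

theorem toWedge_un (U : X.Opens) (z : ↥(filt (fL S U) 0 n)) :
    (toWedge S n).app U (un S n 0 U z) = eta S.X₂ n U z.1 :=
  homF_un S n (fun U => eta S.X₂ n U ∘ₗ (filt (fL S U) 0 n).subtype) (toWedgeApp_res S n) U z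

include h₁ h₃ in
theorem isFinLocFree_gr (j l : ℕ) : FlatMod.IsFinLocFree (gr S j l) := by
  have key : ∀ (A B : X.Modules), FlatMod.IsFinLocFree A → FlatMod.IsFinLocFree B →
      FlatMod.IsFinLocFree (CohB1.tensorMod A B) := fun A B hA hB => OX.isFinLocFree_tensor hA hB
  exact key _ _ (isFinLocFree_wedge h₁ j) (isFinLocFree_wedge h₃ l)

theorem isZero_F_of_lt {j : ℕ} (h : n < j) : IsZero (F S n j) := by
  refine (IsZero.iff_id_eq_zero _).2 (hom_ext S fun U z => ?_)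
  have hz : z = 0 := Subtype.ext ((Submodule.mem_bot _).1 ((filt_of_lt (fL S U) h).le z.2))
  rw [hz, map_zero, map_zero]
  exact (map_zero _).symm

theorem isIso_toWedge : IsIso (toWedge S n) := by
  have hS' : (ShortComplex.mk (toWedge S n) (0 : _ ⟶ (0 : X.Modules)) comp_zero).ShortExact := by
    refine shortExact_of_local _ ?_ ?_ fun U m p hp => ?_
    · intro U m hm p hp
      obtain ⟨V, hV, z, hpV, hz⟩ := un_locSurj S n (j := 0) m p hp
      have h0 : eta S.X₂ n V z.1 = 0 := by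
        rw [← toWedge_un, hz]
        refine (app_res (toWedge S n) hV m).trans ?_
        exact (congrArg _ hm).trans (map_zero ((wedge S.X₂ n).presheaf.map _).hom)
      obtain ⟨W, hW, hpW, hres⟩ := eta_locInj S.X₂ n (h0.trans (map_zero _).symm) p hpV
      rw [map_zero] at hres
      refine ⟨W, hW.trans hV, hpW, ?_⟩
      rw [← InvExt.mres_mres _ hV hW, ← hz, mres_un]
      exact (congrArg _ (Subtype.ext hres)).trans (map_zero _)
    · intro U m _ p hp
      obtain ⟨V, hV, x, hpV, hx⟩ := eta_locSurj S.X₂ n m p hp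
      refine ⟨V, hV, un S n 0 V ⟨x, (filt_zero (fL S V) n).ge Submodule.mem_top⟩, hpV, ?_⟩
      exact (toWedge_un S n V _).trans hx
    · refine ⟨U, le_rfl, 0, hp, ?_⟩
      have h0 : ∀ y : Γ((0 : X.Modules), U), y = 0 := fun y => by
        have e := congrArg (fun t : (0 : X.Modules) ⟶ 0 => t.app U)
          ((IsZero.iff_id_eq_zero (0 : X.Modules)).1 (isZero_zero _))
        have e' := ConcreteCategory.congr_hom e y
        simp only [Scheme.Modules.Hom.id_app, Scheme.Modules.Hom.zero_app] at e'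
        exact e'
      exact (h0 _).trans (h0 _).symm
  haveI := hS'.mono_f
  haveI : Epi (toWedge S n) := hS'.exact.epi_f rfl
  exact isIso_of_mono_of_epi _

variable {n}

include hS h₁ h₂ h₃ in
theorem cl_F (j : ℕ) (hj : j ≤ n + 1) : FlatMod.IsFinLocFree (F S n j) ∧
    KZero.clSub (KRR.vbP X) (F S n j) = ∑ i ∈ Finset.Ico j (n + 1), KZero.clSub (KRR.vbP X) (gr S i (n - i)) := by
  induction hk : n + 1 - j generalizing j with
  | zero =>
    obtain rfl : j = n + 1 := by omega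
    have hz := isZero_F_of_lt S n (show n < n + 1 by omega)
    exact ⟨DCoh.isFinLocFree_of_isZero hz, by rw [Finset.Ico_self, Finset.sum_empty]; exact K0Sub.clSub_isZero hz⟩
  | succ k ih =>
    obtain ⟨hf, hcl⟩ := ih (j + 1) (by omega) (by omega)
    have hn : j + (n - j) = n := by omega
    have hse := shortExact_step S hS h₁ h₂ h₃ hn
    have hg : FlatMod.IsFinLocFree (gr S j (n - j)) :=
      isFinLocFree_gr S h₁ h₃ j (n - j)
    have hF := K0Sub.isFinLocFree_ext _ hse hf hg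
    refine ⟨hF, ?_⟩
    rw [K0Sub.clSub_add (P := KRR.vbP X) hse hf hF hg, Finset.sum_eq_sum_Ico_succ_bot (by omega : j < n + 1),
      hcl, add_comm]

include hS h₁ h₂ h₃ in
theorem cl_wedge (n : ℕ) : KZero.clSub (KRR.vbP X) (wedge S.X₂ n) =
    ∑ i ∈ Finset.range (n + 1), KZero.clSub (KRR.vbP X) (CohB1.tensorMod (wedge S.X₁ i) (wedge S.X₃ (n - i))) := by
  haveI := isIso_toWedge S n
  obtain ⟨hf, hcl⟩ := cl_F S hS h₁ h₂ h₃ (n := n) 0 (Nat.zero_le _)
  rw [RegSheaf.clSub_iso (fun _ hZ => DCoh.isFinLocFree_of_isZero hZ) (asIso (toWedge S n)).symm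
    (isFinLocFree_wedge h₂ n) hf, hcl, Finset.range_eq_Ico]

end GrothLib.ExtPowX.Ses
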