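import Mathlib.LinearAlgebra.ExteriorPower.Basic
import Mathlib.RingTheory.Localization.BaseChange
import Mathlib.RingTheory.TensorProduct.Basic

/-!
# Exterior powers of semilinear maps and localisation
-/

set_option autoImplicit false

universe u v w

open TensorProduct

noncomputable section

namespace GrothLib.ExtPowX

variable {A : Type u} [CommRing A] {B : Type u} [CommRing B] {g : A →+* B}
variable {M : Type v} [AddCommGroup M] [Module A M] {M' : Type w} [AddCommGroup M'] [Module B M']

/-- The alternating map underlying the exterior power of a semilinear map. -/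
def extAlt (k : ℕ) (ψ : M →ₛₗ[g] M') :
    letI := Module.compHom (⋀[B]^k M') g
    M [⋀^Fin k]→ₗ[A] ↥(⋀[B]^k M') :=
  letI := Module.compHom (⋀[B]^k M') g
  { toFun := fun v => exteriorPower.ιMulti B k (fun i => ψ (v i))
    map_update_add' := fun v i x y => by
      show exteriorPower.ιMulti B k (ψ ∘ Function.update v i (x + y))
        = exteriorPower.ιMulti B k (ψ ∘ Function.update v i x) + exteriorPower.ιMulti B k (ψ ∘ Function.update v i y)
      rw [Function.comp_update, Function.comp_update, Function.comp_update, map_add,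
        AlternatingMap.map_update_add]
    map_update_smul' := fun v i c x => by
      show exteriorPower.ιMulti B k (ψ ∘ Function.update v i (c • x))
        = g c • exteriorPower.ιMulti B k (ψ ∘ Function.update v i x)
      rw [Function.comp_update, Function.comp_update, map_smulₛₗ, AlternatingMap.map_update_smul]
    map_eq_zero_of_eq' := fun v i j h hij =>
      (exteriorPower.ιMulti B k).map_eq_zero_of_eq (fun l => ψ (v l)) (by rw [h]) hij }

/-- The exterior power of a semilinear map. -/
def extMap (k : ℕ) (ψ : M →ₛₗ[g] M') : (⋀[A]^k M) →ₛₗ[g] ⋀[B]^k M' :=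
  letI := Module.compHom (⋀[B]^k M') g
  { toFun := fun z => exteriorPower.alternatingMapLinearEquiv (extAlt k ψ) z
    map_add' := fun x y => map_add (exteriorPower.alternatingMapLinearEquiv (extAlt k ψ)) x y
    map_smul' := fun c x => map_smul (exteriorPower.alternatingMapLinearEquiv (extAlt k ψ)) c x }

@[simp]
theorem extMap_ιMulti (k : ℕ) (ψ : M →ₛₗ[g] M') (v : Fin k → M) :
    extMap k ψ (exteriorPower.ιMulti A k v) = exteriorPower.ιMulti B k (fun i => ψ (v i)) :=
  letI := Module.compHom (⋀[B]^k M') g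
  exteriorPower.alternatingMapLinearEquiv_apply_ιMulti (extAlt k ψ) v

theorem ext_semilinear {N : Type*} [AddCommGroup N] [Module B N] {k : ℕ} {f₁ f₂ : (⋀[A]^k M) →ₛₗ[g] N}
    (h : ∀ v, f₁ (exteriorPower.ιMulti A k v) = f₂ (exteriorPower.ιMulti A k v)) (z : ⋀[A]^k M) :
    f₁ z = f₂ z := by
  have hz : z ∈ Submodule.span A (Set.range (exteriorPower.ιMulti A k : (Fin k → M) → ⋀[A]^k M)) := by
    rw [exteriorPower.ιMulti_span]; exact Submodule.mem_top
  induction hz using Submodule.span_induction with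
  | mem x hx => obtain ⟨v, rfl⟩ := hx; exact h v
  | zero => rw [map_zero, map_zero]
  | add x y _ _ hx hy => rw [map_add, map_add, hx, hy]
  | smul c x _ hx => rw [map_smulₛₗ, map_smulₛₗ, hx]

theorem extMap_comm {C D : Type u} [CommRing C] [CommRing D] {g₁ : A →+* B} {g₂ : B →+* D} {g₃ : A →+* C}
    {g₄ : C →+* D} {N : Type*} [AddCommGroup N] [Module C N] {P : Type*} [AddCommGroup P] [Module D P]
    (k : ℕ) (ψ₁ : M →ₛₗ[g₁] M') (ψ₂ : M' →ₛₗ[g₂] P) (ψ₃ : M →ₛₗ[g₃] N) (ψ₄ : N →ₛₗ[g₄] P)
    (hg : ∀ a, g₂ (g₁ a) = g₄ (g₃ a)) (h : ∀ m, ψ₂ (ψ₁ m) = ψ₄ (ψ₃ m)) (z : ⋀[A]^k M) :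
    extMap k ψ₂ (extMap k ψ₁ z) = extMap k ψ₄ (extMap k ψ₃ z) := by
  have hz : z ∈ Submodule.span A (Set.range (exteriorPower.ιMulti A k : (Fin k → M) → ⋀[A]^k M)) := by
    rw [exteriorPower.ιMulti_span]; exact Submodule.mem_top
  induction hz using Submodule.span_induction with
  | mem x hx =>
    obtain ⟨v, rfl⟩ := hx
    rw [extMap_ιMulti, extMap_ιMulti, extMap_ιMulti, extMap_ιMulti]
    exact congrArg _ (funext fun i => h (v i))
  | zero => simp
  | add x y _ _ hx hy => rw [map_add, map_add, map_add, map_add, hx, hy]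
  | smul c x _ hx => rw [map_smulₛₗ, map_smulₛₗ, map_smulₛₗ, map_smulₛₗ, hx, hg]

end GrothLib.ExtPowX

namespace GrothLib.ExtPowX

section Localisation

variable {A : Type u} [CommRing A] {B : Type u} [CommRing B] [Algebra A B]
variable {M : Type v} [AddCommGroup M] [Module A M] {M' : Type v} [AddCommGroup M'] [Module A M'] [Module B M']
  [IsScalarTower A B M']

/-- The semilinear map of exterior algebras witnessing that wedges commute with localisation. -/
theorem exists_smul_eq_zero_of_extMap_eq_zero (S : Submonoid A) [IsLocalization S B]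
    (f : M →ₗ[A] M') [IsLocalizedModule S f] (k : ℕ) (ψ : M →ₛₗ[algebraMap A B] M') (hψ : ∀ m, ψ m = f m)
    {z : ⋀[A]^k M} (hz : extMap k ψ z = 0) : ∃ s : S, (s : A) • z = 0 := by
  let EA := ExteriorAlgebra A M
  let mk : EA →ₗ[A] B ⊗[A] EA := TensorProduct.mk A B EA 1
  have hf : IsBaseChange B f := IsLocalizedModule.isBaseChange S B f
  let l : M' →ₗ[B] B ⊗[A] EA := hf.lift (mk ∘ₗ ExteriorAlgebra.ι A)
  have hl : ∀ m, l (f m) = (1 : B) ⊗ₜ[A] ExteriorAlgebra.ι A m := fun m => hf.lift_eq _ m
  have hsq : ∀ y, l y * l y = 0 := fun y => by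
    obtain ⟨⟨m, s⟩, hms⟩ := IsLocalizedModule.surj S f y
    obtain ⟨u, hu⟩ := IsLocalization.map_units B s
    have h2 : (↑u : B) • l y = (1 : B) ⊗ₜ[A] ExteriorAlgebra.ι A m := by
      rw [← map_smul, hu, algebraMap_smul, ← hl]
      exact congrArg l hms
    have h3 : l y = (↑u⁻¹ : B) • ((1 : B) ⊗ₜ[A] ExteriorAlgebra.ι A m) := by
      rw [← h2, smul_smul, Units.inv_mul, one_smul]
    rw [h3, smul_mul_smul_comm, Algebra.TensorProduct.tmul_mul_tmul, ExteriorAlgebra.ι_sq_zero,
      tmul_zero, smul_zero]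
  let G : ExteriorAlgebra B M' →ₐ[B] B ⊗[A] EA := ExteriorAlgebra.lift B ⟨l, hsq⟩
  have key : ∀ v : Fin k → M, G (exteriorPower.ιMulti B k fun i => ψ (v i) : ExteriorAlgebra B M') =
      (1 : B) ⊗ₜ[A] (exteriorPower.ιMulti A k v : ExteriorAlgebra A M) := fun v => by
    rw [exteriorPower.ιMulti_apply_coe, exteriorPower.ιMulti_apply_coe, ExteriorAlgebra.ιMulti_apply,
      ExteriorAlgebra.ιMulti_apply, map_list_prod, List.map_ofFn]
    have e : (fun i => G (ExteriorAlgebra.ι B (ψ (v i)))) =
        fun i => Algebra.TensorProduct.includeRight (R := A) (A := B) (ExteriorAlgebra.ι A (v i)) :=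
      funext fun i => by
        rw [ExteriorAlgebra.lift_ι_apply, hψ]
        exact hl _
    rw [Function.comp_def, e]
    refine Eq.trans ?_ (map_list_prod (Algebra.TensorProduct.includeRight (R := A) (A := B)) _).symm
    rw [List.map_ofFn]
    rfl
  have hG : G (extMap k ψ z : ExteriorAlgebra B M') = (1 : B) ⊗ₜ[A] (z : ExteriorAlgebra A M) := by
    have hz' : z ∈ Submodule.span A (Set.range (exteriorPower.ιMulti A k : (Fin k → M) → ⋀[A]^k M)) := by
      rw [exteriorPower.ιMulti_span]; exact Submodule.mem_top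
    clear hz
    induction hz' using Submodule.span_induction with
    | mem x hx =>
      obtain ⟨v, rfl⟩ := hx
      rw [extMap_ιMulti]
      exact key v
    | zero => simp
    | add x y _ _ hx hy => simp [hx, hy, tmul_add]
    | smul c x _ hx =>
      rw [map_smulₛₗ, Submodule.coe_smul, map_smul, hx, Submodule.coe_smul, tmul_smul, algebraMap_smul]
  rw [hz] at hG
  have h0 : mk (z : ExteriorAlgebra A M) = 0 := by
    simpa [mk] using hG.symm
  have : IsLocalizedModule S mk :=
    (isLocalizedModule_iff_isBaseChange S B mk).2 (TensorProduct.isBaseChange A EA B)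
  obtain ⟨s, hs⟩ := (IsLocalizedModule.eq_zero_iff S mk).1 h0
  exact ⟨s, Subtype.ext hs⟩

end Localisation

end GrothLib.ExtPowX
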