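import Mathlib.LinearAlgebra.ExteriorPower.Basic
import Mathlib.LinearAlgebra.ExteriorAlgebra.Grading
import Mathlib.LinearAlgebra.CliffordAlgebra.Conjugation
import Mathlib.RingTheory.TensorProduct.Basic
import Mathlib.LinearAlgebra.TensorProduct.Basic
import Mathlib.RingTheory.Finiteness.Basic

/-!
# The filtration of an exterior power attached to a short exact sequence of modules
-/

set_option autoImplicit false

universe u v

open TensorProduct

noncomputable section

namespace GrothLib.ExtPowX.Ses

variable {A : Type u} [CommRing A] {M' M M'' : Type v} [AddCommGroup M'] [Module A M'] [AddCommGroup M]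
  [Module A M] [AddCommGroup M''] [Module A M''] (f : M' →ₗ[A] M) (q : M →ₗ[A] M'')

/-- The submodule of wedges with at least `j` entries from the submodule. -/
def filt (j n : ℕ) : Submodule A (⋀[A]^n M) :=
  if j ≤ n then Submodule.comap (⋀[A]^n M).subtype
    (LinearMap.range (ExteriorAlgebra.ι A ∘ₗ f) ^ j * (⋀[A]^(n - j) M)) else ⊥

theorem mem_filt {j l n : ℕ} (h : j + l = n) {z : ⋀[A]^n M} :
    z ∈ filt f j n ↔ (z : ExteriorAlgebra A M) ∈ LinearMap.range (ExteriorAlgebra.ι A ∘ₗ f) ^ j * (⋀[A]^l M) := by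
  rw [filt, if_pos (by omega), show n - j = l by omega]
  rfl

theorem filt_zero (n : ℕ) : filt f 0 n = ⊤ := by
  refine top_unique fun z _ => ?_
  rw [mem_filt f (zero_add n), pow_zero, one_mul]
  exact z.2

theorem filt_of_lt {j n : ℕ} (h : n < j) : filt f j n = ⊥ := if_neg (by omega)

theorem filt_succ_le (j n : ℕ) : filt f (j + 1) n ≤ filt f j n := by
  rcases Nat.lt_or_ge n (j + 1) with h | h
  · rw [filt_of_lt f h]; exact bot_le
  obtain ⟨l, rfl⟩ : ∃ l, n = j + 1 + l := ⟨n - (j + 1), by omega⟩
  intro z hz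
  rw [mem_filt f rfl] at hz
  rw [mem_filt f (show j + (l + 1) = j + 1 + l by omega)]
  refine Submodule.mul_le.2 ?_ hz
  intro a ha b hb
  rw [pow_succ] at ha
  have h2 : LinearMap.range (ExteriorAlgebra.ι A ∘ₗ f) * (⋀[A]^l M) ≤ (⋀[A]^(l + 1) M) := by
    show _ ≤ LinearMap.range (ExteriorAlgebra.ι A) ^ (l + 1)
    rw [pow_succ']
    exact mul_le_mul' (LinearMap.range_comp_le_range f (ExteriorAlgebra.ι A)) le_rfl
  have h3 : a * b ∈ LinearMap.range (ExteriorAlgebra.ι A ∘ₗ f) ^ j * LinearMap.range (ExteriorAlgebra.ι A ∘ₗ f) *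
      (⋀[A]^l M) := Submodule.mul_mem_mul ha hb
  rw [mul_assoc] at h3
  exact (mul_le_mul' le_rfl h2) h3

/-- Multiplication. -/
def mu {j l n : ℕ} (h : j + l = n) : (⋀[A]^j M') ⊗[A] (⋀[A]^l M) →ₗ[A] ⋀[A]^n M :=
  LinearMap.codRestrict _
    ((LinearMap.mul' A (ExteriorAlgebra A M)) ∘ₗ
      TensorProduct.map ((⋀[A]^j M).subtype ∘ₗ exteriorPower.map j f) (⋀[A]^l M).subtype)
    fun z => by
      induction z using TensorProduct.induction_on with
      | zero => simp
      | tmul a b =>
        rw [LinearMap.comp_apply, TensorProduct.map_tmul, LinearMap.mul'_apply]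
        show _ ∈ LinearMap.range (ExteriorAlgebra.ι A) ^ n
        rw [← h, pow_add]
        exact Submodule.mul_mem_mul (exteriorPower.map j f a).2 b.2
      | add a b ha hb => rw [map_add]; exact add_mem ha hb

/-- The associated map to the graded piece. -/
def rho (j l : ℕ) : (⋀[A]^j M') ⊗[A] (⋀[A]^l M) →ₗ[A] (⋀[A]^j M') ⊗[A] (⋀[A]^l M'') :=
  TensorProduct.map LinearMap.id (exteriorPower.map l q)

theorem coe_map (j : ℕ) (x : ⋀[A]^j M') :
    (exteriorPower.map j f x : ExteriorAlgebra A M) = ExteriorAlgebra.map f (x : ExteriorAlgebra A M') := by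
  have h : (⋀[A]^j M).subtype ∘ₗ exteriorPower.map j f =
      (ExteriorAlgebra.map f).toLinearMap ∘ₗ (⋀[A]^j M').subtype := by
    refine exteriorPower.linearMap_ext (AlternatingMap.ext fun v => ?_)
    simp [exteriorPower.map_apply_ιMulti, ExteriorAlgebra.map_apply_ιMulti]
  exact LinearMap.congr_fun h x

theorem coe_mu {j l n : ℕ} (h : j + l = n) (x : ⋀[A]^j M') (e : ⋀[A]^l M) :
    (mu f h (x ⊗ₜ e) : ExteriorAlgebra A M) = ExteriorAlgebra.map f (x : ExteriorAlgebra A M') * e := by
  rw [← coe_map]
  rfl

theorem range_map (j : ℕ) : Submodule.map (ExteriorAlgebra.map f).toLinearMap (⋀[A]^j M') =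
    LinearMap.range (ExteriorAlgebra.ι A ∘ₗ f) ^ j := by
  show Submodule.map _ (LinearMap.range (ExteriorAlgebra.ι A) ^ j) = _
  rw [Submodule.map_pow, ← LinearMap.range_comp, ExteriorAlgebra.map_comp_ι]

theorem mu_mem {j l n : ℕ} (h : j + l = n) (z : (⋀[A]^j M') ⊗[A] (⋀[A]^l M)) : mu f h z ∈ filt f j n := by
  induction z using TensorProduct.induction_on with
  | zero => rw [map_zero]; exact zero_mem _
  | tmul x e =>
    rw [mem_filt f h, coe_mu]
    refine Submodule.mul_mem_mul ?_ e.2
    rw [← range_map]
    exact Submodule.mem_map_of_mem x.2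
  | add a b ha hb => rw [map_add]; exact add_mem ha hb

theorem exists_mu {j l n : ℕ} (h : j + l = n) {z : ⋀[A]^n M} (hz : z ∈ filt f j n) :
    ∃ w, mu f h w = z := by
  rw [mem_filt f h] at hz
  suffices ∀ y ∈ LinearMap.range (ExteriorAlgebra.ι A ∘ₗ f) ^ j * (⋀[A]^l M),
      ∃ w, (mu f h w : ExteriorAlgebra A M) = y by
    obtain ⟨w, hw⟩ := this _ hz
    exact ⟨w, Subtype.ext hw⟩
  intro y hy
  induction hy using Submodule.mul_induction_on' with
  | mem_mul_mem a ha b hb =>
    rw [← range_map] at ha
    obtain ⟨x, hx, rfl⟩ := ha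
    exact ⟨(⟨x, hx⟩ : ⋀[A]^j M') ⊗ₜ (⟨b, hb⟩ : ⋀[A]^l M), coe_mu f h _ _⟩
  | add a _ b _ ha hb =>
    obtain ⟨w, hw⟩ := ha
    obtain ⟨w', hw'⟩ := hb
    exact ⟨w + w', by rw [map_add, Submodule.coe_add, hw, hw']⟩

/-- Deeper elements lift to the kernel of the associated map. -/
theorem exists_mu_rho_eq_zero (hfq : q ∘ₗ f = 0) {j l n : ℕ} (h : j + (l + 1) = n) {z : ⋀[A]^n M}
    (hz : z ∈ filt f (j + 1) n) : ∃ w, mu f h w = z ∧ rho q j (l + 1) w = 0 := by
  obtain ⟨w₀, rfl⟩ := exists_mu f (show j + 1 + l = n by omega) hz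
  clear hz
  induction w₀ using TensorProduct.induction_on with
  | zero => exact ⟨0, by simp, by simp⟩
  | add a b ha hb =>
    obtain ⟨w, hw, hw0⟩ := ha
    obtain ⟨w', hw', hw0'⟩ := hb
    exact ⟨w + w', by simp [hw, hw'], by simp [hw0, hw0']⟩
  | tmul x e =>
    have hx : x ∈ Submodule.span A (Set.range (exteriorPower.ιMulti A (j + 1) (M := M'))) := by
      rw [exteriorPower.ιMulti_span]; exact Submodule.mem_top
    induction hx using Submodule.span_induction with
    | zero => exact ⟨0, by simp, by simp⟩
    | add a b _ _ ha hb =>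
      obtain ⟨w, hw, hw0⟩ := ha
      obtain ⟨w', hw', hw0'⟩ := hb
      exact ⟨w + w', by simp [hw, hw', add_tmul], by simp [hw0, hw0']⟩
    | smul c a _ ha =>
      obtain ⟨w, hw, hw0⟩ := ha
      exact ⟨c • w, by rw [map_smul, hw, ← map_smul, TensorProduct.smul_tmul'], by rw [map_smul, hw0, smul_zero]⟩
    | mem x hx =>
      obtain ⟨v, rfl⟩ := hx
      have he : e ∈ Submodule.span A (Set.range (exteriorPower.ιMulti A l (M := M))) := by
        rw [exteriorPower.ιMulti_span]; exact Submodule.mem_top
      induction he using Submodule.span_induction with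
      | zero => exact ⟨0, by simp, by simp⟩
      | add a b _ _ ha hb =>
        obtain ⟨w, hw, hw0⟩ := ha
        obtain ⟨w', hw', hw0'⟩ := hb
        exact ⟨w + w', by simp [hw, hw', tmul_add], by simp [hw0, hw0']⟩
      | smul c a _ ha =>
        obtain ⟨w, hw, hw0⟩ := ha
        exact ⟨c • w, by rw [map_smul, hw, ← map_smul, TensorProduct.tmul_smul], by rw [map_smul, hw0, smul_zero]⟩
      | mem e he =>
        obtain ⟨b, rfl⟩ := he
        refine ⟨exteriorPower.ιMulti A j (fun i => v i.castSucc) ⊗ₜ
          exteriorPower.ιMulti A (l + 1) (Fin.cons (f (v (Fin.last j))) b), Subtype.ext ?_, ?_⟩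
        · rw [coe_mu, coe_mu, exteriorPower.ιMulti_apply_coe, exteriorPower.ιMulti_apply_coe,
            exteriorPower.ιMulti_apply_coe, exteriorPower.ιMulti_apply_coe, ExteriorAlgebra.map_apply_ιMulti,
            ExteriorAlgebra.map_apply_ιMulti, ExteriorAlgebra.ιMulti_apply, ExteriorAlgebra.ιMulti_apply,
            ExteriorAlgebra.ιMulti_apply, ExteriorAlgebra.ιMulti_apply, List.ofFn_succ, List.prod_cons,
            List.ofFn_succ' (f := fun i : Fin (j + 1) => _), List.prod_concat]
          simp only [Fin.cons_zero, Fin.cons_succ, Function.comp_apply, mul_assoc]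
        · show TensorProduct.map _ _ (_ ⊗ₜ _) = 0
          rw [TensorProduct.map_tmul, exteriorPower.map_apply_ιMulti,
            (exteriorPower.ιMulti A (l + 1)).map_coord_zero 0 (by simpa using LinearMap.congr_fun hfq _), tmul_zero]

section Split

variable (s : M'' →ₗ[A] M)

/-- Telescoping. -/
theorem sub_mem_filt_one (hs : ∀ m, m - s (q m) ∈ LinearMap.range f) : ∀ (l : ℕ) (b : Fin (l + 1) → M),
    ExteriorAlgebra.ιMulti A (l + 1) b - ExteriorAlgebra.ιMulti A (l + 1) (fun i => s (q (b i))) ∈
      LinearMap.range (ExteriorAlgebra.ι A ∘ₗ f) * (⋀[A]^l M)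
  | 0, b => by
    simp only [ExteriorAlgebra.ιMulti_succ_apply, ExteriorAlgebra.ιMulti_zero_apply, mul_one, ← map_sub]
    obtain ⟨x, hx⟩ := hs (b 0)
    have h := Submodule.mul_mem_mul (M := LinearMap.range (ExteriorAlgebra.ι A ∘ₗ f)) (N := ⋀[A]^0 M)
      ⟨x, rfl⟩ (show (1 : ExteriorAlgebra A M) ∈ ⋀[A]^0 M from SetLike.one_mem_graded (fun i : ℕ => ⋀[A]^i M))
    rw [mul_one, LinearMap.comp_apply, hx] at h
    exact h
  | l + 1, b => by
    rw [ExteriorAlgebra.ιMulti_succ_apply, ExteriorAlgebra.ιMulti_succ_apply (fun i => s (q (b i)))]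
    set a := ExteriorAlgebra.ι A (b 0)
    set a' := ExteriorAlgebra.ι A (s (q (b 0)))
    set P := ExteriorAlgebra.ιMulti A (l + 1) (Matrix.vecTail b)
    set P' := ExteriorAlgebra.ιMulti A (l + 1) (Matrix.vecTail fun i => s (q (b i)))
    rw [show a * P - a' * P' = (a - a') * P + a' * (P - P') by rw [sub_mul, mul_sub]; abel]
    refine add_mem (Submodule.mul_mem_mul ?_ ?_) ?_
    · obtain ⟨x, hx⟩ := hs (b 0)
      exact ⟨x, by rw [LinearMap.comp_apply, hx, map_sub]⟩
    · exact ExteriorAlgebra.ιMulti_range A (l + 1) ⟨_, rfl⟩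
    · have ih := sub_mem_filt_one hs l (Matrix.vecTail b)
      have hcomm : ∀ y ∈ LinearMap.range (ExteriorAlgebra.ι A ∘ₗ f) * (⋀[A]^l M),
          a' * y ∈ LinearMap.range (ExteriorAlgebra.ι A ∘ₗ f) * (⋀[A]^(l + 1) M) := by
        intro y hy
        induction hy using Submodule.mul_induction_on' with
        | mem_mul_mem c hc d hd =>
          obtain ⟨x, rfl⟩ := hc
          rw [← mul_assoc, LinearMap.comp_apply, eq_neg_of_add_eq_zero_left
            (ExteriorAlgebra.ι_add_mul_swap (R := A) (s (q (b 0))) (f x)), neg_mul, mul_assoc]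
          refine neg_mem (Submodule.mul_mem_mul ⟨x, rfl⟩ ?_)
          show _ ∈ LinearMap.range (ExteriorAlgebra.ι A) ^ (l + 1)
          rw [pow_succ']
          exact Submodule.mul_mem_mul ⟨_, rfl⟩ hd
        | add c _ d _ hc hd => rw [mul_add]; exact add_mem hc hd
      exact hcomm _ ih

theorem sub_mu_mem (hs : ∀ m, m - s (q m) ∈ LinearMap.range f) {j l n : ℕ} (h : j + (l + 1) = n)
    (w : (⋀[A]^j M') ⊗[A] (⋀[A]^(l + 1) M)) :
    mu f h w - mu f h (TensorProduct.map LinearMap.id (exteriorPower.map (l + 1) s) (rho q j (l + 1) w)) ∈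
      filt f (j + 1) n := by
  induction w using TensorProduct.induction_on with
  | zero => simp
  | add a b ha hb => simp only [map_add, add_sub_add_comm]; exact add_mem ha hb
  | tmul x e =>
    have he : e ∈ Submodule.span A (Set.range (exteriorPower.ιMulti A (l + 1) (M := M))) := by
      rw [exteriorPower.ιMulti_span]; exact Submodule.mem_top
    induction he using Submodule.span_induction with
    | zero => simp
    | add a b _ _ ha hb => simp only [tmul_add, map_add, add_sub_add_comm]; exact add_mem ha hb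
    | smul c a _ ha => simp only [tmul_smul, map_smul]; convert Submodule.smul_mem _ c ha using 1; module
    | mem e he =>
      obtain ⟨b, rfl⟩ := he
      rw [rho, TensorProduct.map_tmul, TensorProduct.map_tmul, LinearMap.id_apply, LinearMap.id_apply,
        exteriorPower.map_apply_ιMulti, exteriorPower.map_apply_ιMulti, mem_filt f (show j + 1 + l = n by omega),
        Submodule.coe_sub, coe_mu, coe_mu, ← mul_sub, exteriorPower.ιMulti_apply_coe, exteriorPower.ιMulti_apply_coe,
        pow_succ, mul_assoc]
      refine Submodule.mul_mem_mul ?_ (sub_mem_filt_one f q s hs l b)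
      rw [← range_map]
      exact Submodule.mem_map_of_mem x.2

variable (r : M →ₗ[A] M')

/-- The twisted product action on the tensor product of the two exterior algebras. -/
def act : M →ₗ[A] Module.End A (ExteriorAlgebra A M' ⊗[A] ExteriorAlgebra A M'') :=
  (LinearMap.rTensorHom (ExteriorAlgebra A M'') ∘ₗ LinearMap.mul A (ExteriorAlgebra A M') ∘ₗ ExteriorAlgebra.ι A ∘ₗ r) +
    ((TensorProduct.mapBilinear (RingHom.id A) (ExteriorAlgebra A M') (ExteriorAlgebra A M'') (ExteriorAlgebra A M')
        (ExteriorAlgebra A M'')) (CliffordAlgebra.involute (Q := (0 : QuadraticForm A M'))).toLinearMap ∘ₗ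
      LinearMap.mul A (ExteriorAlgebra A M'') ∘ₗ ExteriorAlgebra.ι A ∘ₗ q)

theorem act_tmul (m : M) (a : ExteriorAlgebra A M') (b : ExteriorAlgebra A M'') :
    act q r m (a ⊗ₜ b) = (ExteriorAlgebra.ι A (r m) * a) ⊗ₜ b +
      (CliffordAlgebra.involute a) ⊗ₜ (ExteriorAlgebra.ι A (q m) * b) := rfl

theorem act_sq (m : M) : act q r m * act q r m = 0 := by
  refine TensorProduct.ext' fun a b => ?_
  rw [Module.End.mul_apply, act_tmul, map_add, act_tmul, act_tmul, ← mul_assoc, ExteriorAlgebra.ι_sq_zero, zero_mul,
    zero_tmul, zero_add, ← mul_assoc (ExteriorAlgebra.ι A (q m)) (ExteriorAlgebra.ι A (q m)),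
    ExteriorAlgebra.ι_sq_zero, zero_mul, tmul_zero, add_zero, map_mul, CliffordAlgebra.involute_ι, neg_mul,
    neg_tmul, neg_add_cancel, LinearMap.zero_apply]

/-- The action of the exterior algebra. -/
def actAlg : ExteriorAlgebra A M →ₐ[A] Module.End A (ExteriorAlgebra A M' ⊗[A] ExteriorAlgebra A M'') :=
  ExteriorAlgebra.lift A ⟨act q r, act_sq q r⟩

/-- Projection to a graded piece. -/
def proj (N : Type v) [AddCommGroup N] [Module A N] (j : ℕ) : ExteriorAlgebra A N →ₗ[A] ⋀[A]^j N :=
  DirectSum.component A ℕ (fun i => ⋀[A]^i N) j ∘ₗ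
    (DirectSum.decomposeLinearEquiv (fun i => ⋀[A]^i N)).toLinearMap

theorem proj_coe {N : Type v} [AddCommGroup N] [Module A N] {i j : ℕ} (z : ⋀[A]^i N) (h : i = j) :
    (proj N j (z : ExteriorAlgebra A N) : ExteriorAlgebra A N) = z := by
  subst h
  show ((DirectSum.decompose (fun i => ⋀[A]^i N) (z : ExteriorAlgebra A N) i) : ExteriorAlgebra A N) = z
  rw [DirectSum.decompose_coe, DirectSum.of_eq_same]

theorem proj_coe_ne {N : Type v} [AddCommGroup N] [Module A N] {i j : ℕ} (z : ⋀[A]^i N) (h : i ≠ j) :
    proj N j (z : ExteriorAlgebra A N) = 0 := by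
  show DirectSum.decompose (fun i => ⋀[A]^i N) (z : ExteriorAlgebra A N) j = 0
  rw [DirectSum.decompose_coe, DirectSum.of_eq_of_ne _ _ _ (Ne.symm h)]

theorem proj_mul {j : ℕ} (x : ⋀[A]^j M') (w : ExteriorAlgebra A M') :
    proj M' j ((x : ExteriorAlgebra A M') * w) = ExteriorAlgebra.algebraMapInv w • x := by
  induction w using DirectSum.Decomposition.inductionOn (fun i => ⋀[A]^i M') with
  | zero => simp
  | add a b ha hb => rw [mul_add, map_add, map_add, ha, hb, add_smul]
  | @homogeneous i y =>
    have hmem : (x : ExteriorAlgebra A M') * y ∈ ⋀[A]^(j + i) M' :=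
      SetLike.mul_mem_graded (A := fun i => ⋀[A]^i M') x.2 y.2
    rcases Nat.eq_zero_or_pos i with rfl | hi
    · obtain ⟨c, hc⟩ : ∃ c, algebraMap A (ExteriorAlgebra A M') c = y := by
        have := y.2
        simpa [ExteriorAlgebra.exteriorPower, Submodule.one_eq_range] using this
      rw [← hc, ExteriorAlgebra.algebraMap_leftInverse, ← Algebra.commutes, ← Algebra.smul_def]
      exact Subtype.ext (proj_coe (c • x) rfl)
    · have h0 : ExteriorAlgebra.algebraMapInv (y : ExteriorAlgebra A M') = 0 := by
        obtain ⟨i, rfl⟩ : ∃ k, i = k + 1 := ⟨i - 1, by omega⟩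
        have hy : y ∈ Submodule.span A (Set.range (exteriorPower.ιMulti A (i + 1) (M := M'))) := by
          rw [exteriorPower.ιMulti_span]; exact Submodule.mem_top
        clear hmem
        induction hy using Submodule.span_induction with
        | zero => simp
        | add a b _ _ ha hb => simp [ha, hb]
        | smul c a _ ha => simp [ha]
        | mem a ha =>
          obtain ⟨v, rfl⟩ := ha
          rw [exteriorPower.ιMulti_apply_coe, ExteriorAlgebra.ιMulti_succ_apply, map_mul,
            ExteriorAlgebra.algebraMapInv, ExteriorAlgebra.lift_ι_apply]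
          simp
      rw [h0, zero_smul]
      exact proj_coe_ne (⟨_, hmem⟩ : ⋀[A]^(j + i) M') (by omega)

/-- The retraction onto the graded piece. -/
def retr (j l n : ℕ) : (⋀[A]^n M) →ₗ[A] (⋀[A]^j M') ⊗[A] (⋀[A]^l M'') :=
  TensorProduct.map (proj M' j) (proj M'' l) ∘ₗ LinearMap.applyₗ (R := A) ((1 : ExteriorAlgebra A M') ⊗ₜ (1 : ExteriorAlgebra A M'')) ∘ₗ
    (actAlg q r).toLinearMap ∘ₗ (⋀[A]^n M).subtype

variable {f q r}

theorem retr_mu (hr : ∀ x, r (f x) = x) (hfq : q ∘ₗ f = 0) {j l n : ℕ} (h : j + l = n)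
    (w : (⋀[A]^j M') ⊗[A] (⋀[A]^l M)) : retr q r j l n (mu f h w) = rho q j l w := by
  induction w using TensorProduct.induction_on with
  | zero => simp
  | add a b ha hb => rw [map_add, map_add, map_add, ha, hb]
  | tmul x e =>
    -- the action of an element coming from `M'`
    have hf : ∀ y : ExteriorAlgebra A M', actAlg q r (ExteriorAlgebra.map f y) =
        LinearMap.rTensor (ExteriorAlgebra A M'') (LinearMap.mulLeft A y) := by
      intro y
      induction y using ExteriorAlgebra.induction with
      | algebraMap c =>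
        rw [AlgHom.commutes, AlgHom.commutes]
        refine TensorProduct.ext' fun a b => ?_
        simp [Algebra.smul_def, TensorProduct.smul_tmul']
      | ι m =>
        rw [ExteriorAlgebra.map_apply_ι, actAlg, ExteriorAlgebra.lift_ι_apply]
        refine TensorProduct.ext' fun a b => ?_
        rw [act_tmul, hr, show q (f m) = 0 from LinearMap.congr_fun hfq m, map_zero, zero_mul, tmul_zero, add_zero]
        rfl
      | mul a b ha hb =>
        rw [map_mul, map_mul, ha, hb]
        refine TensorProduct.ext' fun c d => ?_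
        simp [mul_assoc]
      | add a b ha hb =>
        rw [map_add, map_add, ha, hb]
        refine TensorProduct.ext' fun c d => ?_
        simp [add_mul, TensorProduct.add_tmul]
    -- the part of degree zero in the first factor
    let ε := TensorProduct.map (ExteriorAlgebra.algebraMapInv (R := A) (M := M')).toLinearMap
      (LinearMap.id (R := A) (M := ExteriorAlgebra A M''))
    have he : ∀ (y : ExteriorAlgebra A M) (t : ExteriorAlgebra A M' ⊗[A] ExteriorAlgebra A M''),
        ε (actAlg q r y t) =
          TensorProduct.map LinearMap.id (LinearMap.mulLeft A (ExteriorAlgebra.map q y)) (ε t) := by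
      intro y
      induction y using ExteriorAlgebra.induction with
      | algebraMap c =>
        intro t
        rw [AlgHom.commutes, AlgHom.commutes, Module.algebraMap_end_apply, map_smul]
        have : LinearMap.mulLeft A (algebraMap A (ExteriorAlgebra A M'') c) = c • LinearMap.id :=
          LinearMap.ext fun z => (Algebra.smul_def c z).symm
        rw [this, TensorProduct.map_smul_right, TensorProduct.map_id, LinearMap.smul_apply, LinearMap.id_apply]
      | ι m =>
        intro t
        induction t using TensorProduct.induction_on with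
        | zero => simp
        | add a b ha hb => rw [map_add, map_add, ha, hb, map_add, map_add]
        | tmul a b =>
          rw [actAlg, ExteriorAlgebra.lift_ι_apply, act_tmul, ExteriorAlgebra.map_apply_ι, map_add]
          have h0 : ExteriorAlgebra.algebraMapInv (CliffordAlgebra.involute a : ExteriorAlgebra A M') =
              ExteriorAlgebra.algebraMapInv a := by
            have : (ExteriorAlgebra.algebraMapInv (R := A) (M := M')).comp CliffordAlgebra.involute =
                ExteriorAlgebra.algebraMapInv := by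
              refine ExteriorAlgebra.hom_ext (LinearMap.ext fun z => ?_)
              show ExteriorAlgebra.algebraMapInv (CliffordAlgebra.involute (CliffordAlgebra.ι _ z)) = _
              rw [CliffordAlgebra.involute_ι, map_neg]
              show -ExteriorAlgebra.algebraMapInv (ExteriorAlgebra.ι A z) = ExteriorAlgebra.algebraMapInv (ExteriorAlgebra.ι A z)
              rw [ExteriorAlgebra.algebraMapInv, ExteriorAlgebra.lift_ι_apply]
              simp
            exact AlgHom.congr_fun this a
          simp only [ε, TensorProduct.map_tmul, AlgHom.toLinearMap_apply, map_mul, h0, LinearMap.id_apply,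
            LinearMap.mulLeft_apply]
          rw [ExteriorAlgebra.algebraMapInv, ExteriorAlgebra.lift_ι_apply]
          simp
      | mul a b ha hb =>
        intro t
        rw [map_mul, Module.End.mul_apply, ha, hb, map_mul, ← LinearMap.comp_apply, ← TensorProduct.map_comp,
          LinearMap.comp_id, ← LinearMap.mulLeft_mul]
      | add a b ha hb =>
        intro t
        rw [map_add, LinearMap.add_apply, map_add, ha, hb, map_add,
          show LinearMap.mulLeft A (ExteriorAlgebra.map q a + ExteriorAlgebra.map q b) =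
            LinearMap.mulLeft A (ExteriorAlgebra.map q a) + LinearMap.mulLeft A (ExteriorAlgebra.map q b) from
            LinearMap.ext fun z => add_mul _ _ z,
          TensorProduct.map_add_right, LinearMap.add_apply]
    show TensorProduct.map (proj M' j) (proj M'' l) (actAlg q r (mu f h (x ⊗ₜ e) : ExteriorAlgebra A M) _) = _
    rw [coe_mu, map_mul, Module.End.mul_apply, hf]
    have hgoal : ∀ t : ExteriorAlgebra A M' ⊗[A] ExteriorAlgebra A M'',
        TensorProduct.map (proj M' j) (proj M'' l) (LinearMap.rTensor (ExteriorAlgebra A M'') (LinearMap.mulLeft A (x : ExteriorAlgebra A M')) t) =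
          TensorProduct.map (LinearMap.toSpanSingleton A _ x) (proj M'' l) (ε t) := by
      intro t
      induction t using TensorProduct.induction_on with
      | zero => simp
      | add a b ha hb => simp only [map_add, ha, hb]
      | tmul a b => simp [ε, proj_mul]
    rw [hgoal, he, show ε ((1 : ExteriorAlgebra A M') ⊗ₜ (1 : ExteriorAlgebra A M'')) = (1 : A) ⊗ₜ 1 by simp [ε],
      TensorProduct.map_tmul, TensorProduct.map_tmul, rho, TensorProduct.map_tmul]
    simp only [LinearMap.id_apply, LinearMap.mulLeft_apply, mul_one, LinearMap.toSpanSingleton_apply, one_smul]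
    refine congrArg (x ⊗ₜ ·) (Subtype.ext ?_)
    rw [← coe_map]
    exact proj_coe _ rfl

end Split

end GrothLib.ExtPowX.Ses
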