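import Groth.Agent.Lib.ExtPowX.Alg
import Groth.Agent.Lib.TensorGen.Det
import Groth.Agent.Lib.QCoh.Affine
import Groth.Agent.Lib.FinCov.FrameFree
import Groth.Agent.Lib.Euler.Vanish
import Mathlib.LinearAlgebra.ExteriorPower.Basis
import Groth.Prelude.Def_ExtPow2

/-!
# The exterior powers of a finite locally free module
-/

set_option autoImplicit false
set_option backward.isDefEq.respectTransparency false
set_option linter.style.haveILetI false

universe u

open CategoryTheory AlgebraicGeometry TopologicalSpace Opposite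
open GrothLib.InvExt (mres)
open GrothLib.FinCov (IsFrame)

noncomputable section

namespace GrothLib.ExtPowX

variable {X : Scheme.{u}} (E : X.Modules) (k : ℕ)

/-- Restriction, as a semilinear map. -/
def resL {U V : X.Opens} (h : V ≤ U) :
    Γ(E, U) →ₛₗ[(X.presheaf.map (homOfLE h).op).hom] Γ(E, V) where
  toFun := mres E h
  map_add' := map_add (E.presheaf.map (homOfLE h).op).hom
  map_smul' c x := Scheme.Modules.map_smul E _ c x

/-- The sections of the presheaf of exterior powers. -/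
abbrev wObj (U : (Opens X)ᵒᵖ) : Type u := ↥(⋀[Γ(X, U.unop)]^k Γ(E, U.unop))

/-- Restriction of wedges. -/
def wRes {U V : X.Opens} (h : V ≤ U) :
    ↥(⋀[Γ(X, U)]^k Γ(E, U)) →ₛₗ[(X.presheaf.map (homOfLE h).op).hom] ↥(⋀[Γ(X, V)]^k Γ(E, V)) :=
  extMap k (resL E h)

theorem wRes_ιMulti {U V : X.Opens} (h : V ≤ U) (e : Fin k → Γ(E, U)) :
    wRes E k h (exteriorPower.ιMulti _ k e) = exteriorPower.ιMulti _ k fun i => mres E h (e i) :=
  extMap_ιMulti k _ e

theorem wRes_self {U : X.Opens} (x : ↥(⋀[Γ(X, U)]^k Γ(E, U))) : wRes E k (le_refl U) x = x := by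
  have hz : x ∈ Submodule.span Γ(X, U) (Set.range (exteriorPower.ιMulti Γ(X, U) k (M := Γ(E, U)))) := by
    rw [exteriorPower.ιMulti_span]; exact Submodule.mem_top
  induction hz using Submodule.span_induction with
  | mem y hy =>
    obtain ⟨v, rfl⟩ := hy
    rw [wRes_ιMulti]
    exact congrArg _ (funext fun i => InvExt.mres_self E (v i))
  | zero => exact map_zero _
  | add a b _ _ ha hb => rw [map_add, ha, hb]
  | smul c a _ ha =>
    rw [map_smulₛₗ, ha]
    congr 1
    simp

theorem wRes_wRes {U V W : X.Opens} (h : V ≤ U) (h' : W ≤ V) (x : ↥(⋀[Γ(X, U)]^k Γ(E, U))) :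
    wRes E k h' (wRes E k h x) = wRes E k (h'.trans h) x := by
  have hz : x ∈ Submodule.span Γ(X, U) (Set.range (exteriorPower.ιMulti Γ(X, U) k (M := Γ(E, U)))) := by
    rw [exteriorPower.ιMulti_span]; exact Submodule.mem_top
  induction hz using Submodule.span_induction with
  | mem y hy =>
    obtain ⟨v, rfl⟩ := hy
    rw [wRes_ιMulti, wRes_ιMulti, wRes_ιMulti]
    exact congrArg _ (funext fun i => InvExt.mres_mres E h h' (v i))
  | zero => simp
  | add a b _ _ ha hb => simp [ha, hb]
  | smul c a _ ha =>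
    rw [map_smulₛₗ, map_smulₛₗ, ha, map_smulₛₗ]
    congr 1
    exact (ConcreteCategory.congr_hom (X.presheaf.map_comp (homOfLE h).op (homOfLE h').op) c).symm

/-- The presheaf of exterior powers, as groups. -/
def wAb : (Opens X)ᵒᵖ ⥤ AddCommGrpCat.{u} where
  obj U := AddCommGrpCat.of (wObj E k U)
  map f := AddCommGrpCat.ofHom (wRes E k (leOfHom f.unop)).toAddMonoidHom
  map_id U := AddCommGrpCat.ext fun x => wRes_self E k x
  map_comp f g := AddCommGrpCat.ext fun x => (wRes_wRes E k (leOfHom f.unop) (leOfHom g.unop) x).symm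

instance (U : (Opens X)ᵒᵖ) : Module (X.ringCatSheaf.obj.obj U) ((wAb E k).obj U) :=
  inferInstanceAs (Module Γ(X, U.unop) (wObj E k U))

/-- The presheaf of exterior powers. -/
def wPre : PresheafOfModules.{u} X.ringCatSheaf.obj :=
  PresheafOfModules.ofPresheaf (wAb E k) fun _ _ f r m => (wRes E k (leOfHom f.unop)).map_smulₛₗ r m

/-- The exterior power sheaf. -/
def wedge : X.Modules :=
  (PresheafOfModules.sheafification (R := X.ringCatSheaf) (𝟙 X.ringCatSheaf.obj)).obj (wPre E k)

/-- The sheafification map on sections. -/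
def eta (U : X.Opens) : ↥(⋀[Γ(X, U)]^k Γ(E, U)) →ₗ[Γ(X, U)] Γ(wedge E k, U) :=
  (((PresheafOfModules.sheafificationAdjunction (R := X.ringCatSheaf) (𝟙 X.ringCatSheaf.obj)).unit.app
    (wPre E k)).app (op U)).hom

/-- The unit as a map of presheaves of groups. -/
def etaAb : (wPre E k).presheaf ⟶ (wedge E k).presheaf :=
  CategoryTheory.toSheafify (Opens.grothendieckTopology X) (wPre E k).presheaf

theorem eta_eq (U : X.Opens) (x : ↥(⋀[Γ(X, U)]^k Γ(E, U))) : eta E k U x = (etaAb E k).app (op U) x := rfl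

theorem mres_eta {U V : X.Opens} (h : V ≤ U) (x : ↥(⋀[Γ(X, U)]^k Γ(E, U))) :
    mres (wedge E k) h (eta E k U x) = eta E k V (wRes E k h x) :=
  (ConcreteCategory.congr_hom ((etaAb E k).naturality (homOfLE h).op) x).symm

theorem eta_locInj {U : X.Opens} {x y : ↥(⋀[Γ(X, U)]^k Γ(E, U))} (h : eta E k U x = eta E k U y) (p : X)
    (hp : p ∈ U) : ∃ (V : X.Opens) (hV : V ≤ U), p ∈ V ∧ wRes E k hV x = wRes E k hV y := by
  haveI : Presheaf.IsLocallyInjective (Opens.grothendieckTopology X) (etaAb E k) :=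
    inferInstanceAs (Presheaf.IsLocallyInjective _ (CategoryTheory.toSheafify _ _))
  obtain ⟨V, f, hf, hpV⟩ := Presheaf.equalizerSieve_mem (Opens.grothendieckTopology X) (etaAb E k)
    (X := op U) x y h p hp
  exact ⟨V, leOfHom f, hpV, hf⟩

theorem eta_locSurj {U : X.Opens} (t : Γ(wedge E k, U)) (p : X) (hp : p ∈ U) :
    ∃ (V : X.Opens) (hV : V ≤ U) (x : ↥(⋀[Γ(X, V)]^k Γ(E, V))), p ∈ V ∧ eta E k V x = mres (wedge E k) hV t := by
  haveI : Presheaf.IsLocallySurjective (Opens.grothendieckTopology X) (etaAb E k) :=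
    inferInstanceAs (Presheaf.IsLocallySurjective _ (CategoryTheory.toSheafify _ _))
  obtain ⟨V, f, ⟨x, hx⟩, hpV⟩ := Presheaf.imageSieve_mem (Opens.grothendieckTopology X) (etaAb E k)
    (U := op U) t p hp
  exact ⟨V, leOfHom f, x, hpV, hx⟩

section Frame

variable {E k} {U : X.Opens} {n : ℕ} {e : Fin n → Γ(E, U)}

/-- The wedges of a frame, over a smaller open. -/
def wBasis (he : IsFrame E U e) (k : ℕ) (V : X.Opens) (h : V ≤ U) :
    Module.Basis (Set.powersetCard (Fin n) k) Γ(X, V) ↥(⋀[Γ(X, V)]^k Γ(E, V)) :=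
  (he.basis V h).exteriorPower k

theorem wRes_wBasis (he : IsFrame E U e) {V W : X.Opens} (h : V ≤ U) (h' : W ≤ V) (s : Set.powersetCard (Fin n) k) :
    wRes E k h' (wBasis he k V h s) = wBasis he k W (h'.trans h) s := by
  rw [wBasis, wBasis, exteriorPower.coe_basis, exteriorPower.coe_basis, exteriorPower.ιMulti_family,
    wRes_ιMulti]
  refine congrArg _ (funext fun i => ?_)
  simp only [Function.comp_apply, FinCov.IsFrame.basis_apply]
  exact InvExt.mres_mres E h h' _

theorem repr_wRes (he : IsFrame E U e) {V W : X.Opens} (h : V ≤ U) (h' : W ≤ V)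
    (x : ↥(⋀[Γ(X, V)]^k Γ(E, V))) (s : Set.powersetCard (Fin n) k) :
    (wBasis he k W (h'.trans h)).repr (wRes E k h' x) s =
      X.presheaf.map (homOfLE h').op ((wBasis he k V h).repr x s) := by
  conv_lhs => rw [← (wBasis he k V h).sum_repr x]
  simp only [map_sum, map_smulₛₗ, wRes_wBasis, RingHom.id_apply, Finsupp.coe_finsetSum, Finset.sum_apply,
    Finsupp.coe_smul, Pi.smul_apply, Module.Basis.repr_self, smul_eq_mul]
  rw [Finset.sum_eq_single s]
  · simp
  · intro t _ hts; simp [Finsupp.single_eq_of_ne (Ne.symm hts)]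
  · simp

theorem bijective_eta_of_frame (he : IsFrame E U e) : Function.Bijective (eta E k U) := by
  have sep : ∀ {V : X.Opens} (h : V ≤ U) {a b : ↥(⋀[Γ(X, V)]^k Γ(E, V))},
      (∀ p ∈ V, ∃ (W : X.Opens) (hW : W ≤ V), p ∈ W ∧ wRes E k hW a = wRes E k hW b) → a = b := by
    intro V h a b hab
    choose W hW hpW hres using fun p : V => hab p.1 p.2
    refine (wBasis he k V h).repr.injective (Finsupp.ext fun s => ?_)
    refine X.sheaf.eq_of_locally_eq' W V (fun p => homOfLE (hW p))
      (fun p hp => Opens.mem_iSup.2 ⟨⟨p, hp⟩, hpW ⟨p, hp⟩⟩) _ _ fun p => ?_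
    exact ((repr_wRes he h (hW p) a s).symm.trans (by rw [hres p])).trans (repr_wRes he h (hW p) b s)
  refine ⟨fun a b hab => sep le_rfl fun p hp => eta_locInj E k hab p hp, fun t => ?_⟩
  choose W hW x hpW hx using fun p : U => eta_locSurj E k t p.1 p.2
  have comp : ∀ p q : U, wRes E k (inf_le_left : W p ⊓ W q ≤ W p) (x p) = wRes E k inf_le_right (x q) := by
    intro p q
    refine sep (inf_le_left.trans (hW p)) fun r hr => eta_locInj E k ?_ r hr
    rw [← mres_eta, ← mres_eta, hx, hx, InvExt.mres_mres, InvExt.mres_mres]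
  let c : Set.powersetCard (Fin n) k → ∀ p : U, Γ(X, W p) := fun s p => (wBasis he k (W p) (hW p)).repr (x p) s
  have hc : ∀ s, ∃ g : Γ(X, U), ∀ p, X.presheaf.map (homOfLE (hW p)).op g = c s p := fun s => by
    obtain ⟨g, hg, -⟩ := X.sheaf.existsUnique_gluing' W U (fun p => homOfLE (hW p))
      (fun p hp => Opens.mem_iSup.2 ⟨⟨p, hp⟩, hpW ⟨p, hp⟩⟩) (c s) (fun p q =>
        ((repr_wRes he (hW p) inf_le_left (x p) s).symm.trans (by rw [comp p q])).trans
          (repr_wRes he (hW q) inf_le_right (x q) s))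
    exact ⟨g, hg⟩
  choose g hg using hc
  refine ⟨∑ s, g s • wBasis he k U le_rfl s, ?_⟩
  refine Ample.meq_of_cover (wedge E k) W hW (fun p hp => Opens.mem_iSup.2 ⟨⟨p, hp⟩, hpW ⟨p, hp⟩⟩) fun p => ?_
  rw [mres_eta, ← hx p]
  refine congrArg _ ?_
  rw [map_sum, ← (wBasis he k (W p) (hW p)).sum_repr (x p)]
  refine Finset.sum_congr rfl fun s _ => ?_
  rw [map_smulₛₗ, wRes_wBasis]
  exact congrArg (· • _) (hg s p)

theorem isFrame_wedge (he : IsFrame E U e) (k : ℕ) :
    IsFrame (wedge E k) U fun j : Fin (Fintype.card (Set.powersetCard (Fin n) k)) =>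
      eta E k U (wBasis he k U le_rfl ((Fintype.equivFin _).symm j)) := by
  intro V h
  let ε := Fintype.equivFin (Set.powersetCard (Fin n) k)
  have heV : IsFrame E V fun i => mres E h (e i) := fun W hW => by
    have := he W (hW.trans h)
    convert this using 2 with c
    exact Finset.sum_congr rfl fun i _ => congrArg _ (InvExt.mres_mres E h hW (e i))
  let b := ((wBasis he k V h).reindex ε).map (LinearEquiv.ofBijective _ (bijective_eta_of_frame heV))
  have hb : (fun c : Fin _ → Γ(X, V) => ∑ j, c j • (wedge E k).presheaf.map (homOfLE h).op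
      (eta E k U (wBasis he k U le_rfl (ε.symm j)))) = b.equivFun.symm := by
    funext c
    rw [Module.Basis.equivFun_symm_apply]
    refine Finset.sum_congr rfl fun j _ => congrArg (c j • ·) ?_
    refine (mres_eta E k h _).trans ?_
    rw [wRes_wBasis]
    simp [b]
  rw [hb]
  exact LinearEquiv.bijective _

end Frame

variable {E}

theorem isFinLocFree_wedge (hE : FlatMod.IsFinLocFree E) (k : ℕ) : FlatMod.IsFinLocFree (wedge E k) := fun x => by
  obtain ⟨U, n, e, hx, he⟩ := FinCov.exists_frame_nhd hE x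
  exact ⟨U, _, hx, FinCov.exists_iso_of_frame (isFrame_wedge he k)⟩

theorem exists_wRes_eq (E : X.Modules) [E.IsQuasicoherent] (k : ℕ) {U : X.Opens} (hU : IsAffineOpen U)
    (f : Γ(X, U)) (y : ↥(⋀[Γ(X, X.basicOpen f)]^k Γ(E, X.basicOpen f))) :
    ∃ (N : ℕ) (x : ↥(⋀[Γ(X, U)]^k Γ(E, U))),
      wRes E k (X.basicOpen_le f) x = (X.presheaf.map (homOfLE (X.basicOpen_le f)).op f) ^ N • y := by
  have hsE := (QCoh.smulLift_and_smulSep_of_isAffineOpen hU E f).1
  let G := X.presheaf.map (homOfLE (X.basicOpen_le f)).op f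
  have hy' : y ∈ Submodule.span Γ(X, X.basicOpen f) (Set.range
      (exteriorPower.ιMulti Γ(X, X.basicOpen f) k (M := Γ(E, X.basicOpen f)))) := by
    rw [exteriorPower.ιMulti_span]; exact Submodule.mem_top
  induction hy' using Submodule.span_induction with
  | mem w hw =>
    obtain ⟨v, rfl⟩ := hw
    choose N x hx using fun i => hsE (v i)
    refine ⟨∑ i, N i, exteriorPower.ιMulti _ k x, ?_⟩
    rw [wRes_ιMulti, ← Finset.prod_pow_eq_pow_sum]
    have := (exteriorPower.ιMulti Γ(X, X.basicOpen f) k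
      (M := Γ(E, X.basicOpen f))).toMultilinearMap.map_smul_univ (fun i => G ^ N i) v
    exact Eq.trans (congrArg _ (funext hx)) this
  | zero => exact ⟨0, 0, by simp⟩
  | add a b _ _ ha hb =>
    obtain ⟨M, x, hx⟩ := ha
    obtain ⟨N, z, hz⟩ := hb
    refine ⟨M + N, f ^ N • x + f ^ M • z, ?_⟩
    rw [map_add, map_smulₛₗ, map_smulₛₗ, hx, hz, map_pow, map_pow, smul_smul, smul_smul, ← pow_add, ← pow_add,
      add_comm N M, ← smul_add]
  | smul c a _ ha =>
    obtain ⟨M, x, hx⟩ := ha
    letI : Algebra Γ(X, U) Γ(X, X.basicOpen f) := (X.presheaf.map (homOfLE (X.basicOpen_le f)).op).hom.toAlgebra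
    haveI : IsLocalization.Away f Γ(X, X.basicOpen f) :=
      hU.isLocalization_of_eq_basicOpen f (homOfLE (X.basicOpen_le f)) rfl
    obtain ⟨N, d, hd⟩ := IsLocalization.Away.surj (S := Γ(X, X.basicOpen f)) f c
    refine ⟨N + M, d • x, ?_⟩
    refine ((wRes E k (X.basicOpen_le f)).map_smulₛₗ d x).trans ?_
    have hd' : (X.presheaf.map (homOfLE (X.basicOpen_le f)).op).hom d = c * G ^ N := hd.symm
    refine (congrArg₂ (· • ·) hd' hx).trans ?_
    refine (mul_smul (c * G ^ N) (G ^ M) a).symm.trans (Eq.trans ?_ (mul_smul (G ^ (N + M)) c a))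
    exact congrArg (· • a) (by rw [pow_add]; ring)

theorem bijective_eta_affine (hE : FlatMod.IsFinLocFree E) (k : ℕ) {U : X.Opens} (hU : IsAffineOpen U) :
    Function.Bijective (eta E k U) := by
  haveI hEq : E.IsQuasicoherent := (Euler.isCoh_of_isFinLocFree hE).1
  haveI hLq : (wedge E k).IsQuasicoherent := (Euler.isCoh_of_isFinLocFree (isFinLocFree_wedge hE k)).1
  have hloc : ∀ p : U, ∃ g : Γ(X, U), p.1 ∈ X.basicOpen g ∧
      ∃ (n : ℕ) (e : Fin n → Γ(E, X.basicOpen g)), IsFrame E (X.basicOpen g) e := fun p => by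
    obtain ⟨V, n, e, hpV, he⟩ := FinCov.exists_frame_nhd hE p.1
    obtain ⟨g, hle, hpg⟩ := hU.exists_basicOpen_le (V := V) ⟨p.1, hpV⟩ p.2
    refine ⟨g, hpg, n, fun i => mres E hle (e i), fun W hW => ?_⟩
    convert he W (hW.trans hle) using 2 with c
    exact Finset.sum_congr rfl fun i _ => congrArg _ (InvExt.mres_mres E hle hW (e i))
  choose g hpg n e he using hloc
  have hspan : Ideal.span (Set.range g) = ⊤ := by
    rw [← hU.self_le_iSup_basicOpen_iff (s := Set.range g)]
    intro p hp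
    exact Opens.mem_iSup.2 ⟨⟨g ⟨p, hp⟩, _, rfl⟩, hpg ⟨p, hp⟩⟩
  refine ⟨(injective_iff_map_eq_zero _).2 fun z hz => ?_, fun t => ?_⟩
  · have key : ∀ p, ∃ N : ℕ, g p ^ N • z = 0 := fun p => by
      letI : Algebra Γ(X, U) Γ(X, X.basicOpen (g p)) := (X.presheaf.map (homOfLE (X.basicOpen_le (g p))).op).hom.toAlgebra
      haveI := hU.isLocalization_of_eq_basicOpen (g p) (homOfLE (X.basicOpen_le (g p))) rfl
      letI : Module Γ(X, U) Γ(E, X.basicOpen (g p)) := Module.compHom _ (algebraMap Γ(X, U) Γ(X, X.basicOpen (g p)))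
      haveI : IsScalarTower Γ(X, U) Γ(X, X.basicOpen (g p)) Γ(E, X.basicOpen (g p)) :=
        IsScalarTower.of_algebraMap_smul fun _ _ => rfl
      let f : Γ(E, U) →ₗ[Γ(X, U)] Γ(E, X.basicOpen (g p)) :=
        { toFun := mres E (X.basicOpen_le (g p))
          map_add' := map_add (E.presheaf.map (homOfLE (X.basicOpen_le (g p))).op).hom
          map_smul' := fun c x => Scheme.Modules.map_smul E _ c x }
      have hs := QCoh.smulLift_and_smulSep_of_isAffineOpen hU E (g p)
      haveI : IsLocalizedModule (.powers (g p)) f := by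
        refine IsLocalizedModule.Away.mk_of_addCommGroup ?_ (fun y => ?_) (fun x hx => hs.2 x hx)
        · have hu : IsUnit (algebraMap Γ(X, U) Γ(X, X.basicOpen (g p)) (g p)) :=
            IsLocalization.Away.algebraMap_isUnit (g p)
          rw [Module.End.isUnit_iff]
          constructor
          · intro a b hab
            exact hu.smul_left_cancel.1 hab
          · intro a
            obtain ⟨v, hv⟩ := hu
            exact ⟨(↑v⁻¹ : Γ(X, X.basicOpen (g p))) • a, by
              show algebraMap _ Γ(X, X.basicOpen (g p)) (g p) • _ = a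
              rw [← hv, Module.End.one_apply, ← mul_smul, Units.mul_inv, one_smul]⟩
        · obtain ⟨N, x, hx⟩ := hs.1 y
          exact ⟨N, x, by
            rw [← IsScalarTower.algebraMap_smul Γ(X, X.basicOpen (g p)), map_pow]
            exact hx.symm⟩
      have h0 : eta E k (X.basicOpen (g p)) (wRes E k (X.basicOpen_le (g p)) z) = 0 := by
        rw [← mres_eta, hz]
        exact map_zero ((wedge E k).presheaf.map _).hom
      obtain ⟨⟨_, N, rfl⟩, hN⟩ := exists_smul_eq_zero_of_extMap_eq_zero (B := Γ(X, X.basicOpen (g p)))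
        (.powers (g p)) f k (resL E (X.basicOpen_le (g p))) (fun _ => rfl)
        ((bijective_eta_of_frame (he p)).1 (h0.trans (map_zero _).symm))
      exact ⟨N, hN⟩
    refine (Submodule.mem_bot Γ(X, U)).1 (Submodule.mem_of_span_eq_top_of_smul_pow_mem ⊥ _ hspan z ?_)
    rintro ⟨_, p, rfl⟩
    obtain ⟨N, hN⟩ := key p
    exact ⟨N, (Submodule.mem_bot _).2 hN⟩
  · refine Submodule.mem_of_span_eq_top_of_smul_pow_mem (LinearMap.range (eta E k U)) _ hspan t fun ⟨r, p, hp⟩ => ?_
    subst hp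
    have hD := bijective_eta_of_frame (k := k) (he p)
    obtain ⟨y, hy⟩ := hD.2 (mres (wedge E k) (X.basicOpen_le (g p)) t)
    obtain ⟨N, x, hx⟩ := exists_wRes_eq E k hU (g p) y
    obtain ⟨M, hM⟩ := (QCoh.smulLift_and_smulSep_of_isAffineOpen hU (wedge E k) (g p)).2
      (g p ^ N • t - eta E k U x) (by
        rw [map_sub, Scheme.Modules.map_smul, map_pow]
        refine sub_eq_zero.2 ?_
        refine Eq.trans ?_ (mres_eta E k _ x).symm
        rw [hx, map_smul, hy])
    refine ⟨M + N, g p ^ M • x, ?_⟩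
    rw [map_smul, pow_add, mul_smul]
    rw [smul_sub, sub_eq_zero] at hM
    exact hM.symm

end GrothLib.ExtPowX
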